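import Mathlib

/-!
Element orders through roots of annihilating polynomials.
-/

set_option autoImplicit false

open Polynomial

namespace Cfsg.Agent.Lead.SpFourSpectrum

section Orders

variable {K A : Type*} [Field K] [Ring A] [Algebra K A]

theorem pow_eq_of_dvd {M : A} {P : K[X]} (hP : aeval M P = 0) {N : ℕ} {c : K}
    (h : P ∣ X ^ N - C c) : M ^ N = algebraMap K A c := by
  obtain ⟨R, hR⟩ := h
  have h1 := congrArg (aeval M) hR
  rwa [map_mul, hP, zero_mul, map_sub, map_pow, aeval_X, aeval_C, sub_eq_zero] at h1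

theorem dvd_step {a : K} {N : ℕ} {c : K} (h : a ^ N = c) : X - C a ∣ X ^ N - C c :=
  dvd_iff_isRoot.2 (by simp [IsRoot, h])

theorem sq_dvd_step (p : ℕ) [Fact p.Prime] [CharP K p] {a : K} {N : ℕ} {c : K} (h : a ^ N = c) :
    (X - C a) ^ 2 ∣ X ^ (p * N) - C (c ^ p) := by
  rw [mul_comm p N, pow_mul, C_pow, ← sub_pow_char]
  exact (pow_dvd_pow_of_dvd (dvd_step h) 2).trans (pow_dvd_pow _ (Fact.out : p.Prime).two_le)

theorem coprime_linear {a b : K} (h : a ≠ b) : IsCoprime (X - C a) (X - C b) :=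
  isCoprime_X_sub_C_of_isUnit_sub (sub_ne_zero.2 h).isUnit

theorem coprime_linear_pow {a b : K} (h : a ≠ b) (m n : ℕ) :
    IsCoprime ((X - C a) ^ m) ((X - C b) ^ n) :=
  (coprime_linear h).pow

theorem dvd_two {a b : K} {N : ℕ} {c : K} (hab : a ≠ b) (ha : a ^ N = c) (hb : b ^ N = c) :
    (X - C a) * (X - C b) ∣ X ^ N - C c :=
  (coprime_linear hab).mul_dvd (dvd_step ha) (dvd_step hb)

theorem dvd_four {a b u v : K} {N : ℕ} {c : K} (h1 : a ≠ b) (h2 : a ≠ u) (h3 : a ≠ v) (h4 : b ≠ u)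
    (h5 : b ≠ v) (h6 : u ≠ v) (ha : a ^ N = c) (hb : b ^ N = c) (hu : u ^ N = c) (hv : v ^ N = c) :
    (X - C a) * (X - C b) * ((X - C u) * (X - C v)) ∣ X ^ N - C c :=
  (((coprime_linear h2).mul_right (coprime_linear h3)).mul_left
    ((coprime_linear h4).mul_right (coprime_linear h5))).mul_dvd (dvd_two h1 ha hb) (dvd_two h6 hu hv)

theorem dvd_sq_two (p : ℕ) [Fact p.Prime] [CharP K p] {a b : K} {N : ℕ} {c : K} (hab : a ≠ b)
    (ha : a ^ N = c) (hb : b ^ N = c) :
    (X - C a) ^ 2 * (X - C b) ^ 2 ∣ X ^ (p * N) - C (c ^ p) :=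
  (coprime_linear_pow hab 2 2).mul_dvd (sq_dvd_step p ha) (sq_dvd_step p hb)

theorem dvd_sq_one_one (p : ℕ) [Fact p.Prime] [CharP K p] {a b d : K} {N : ℕ} {c : K}
    (hab : a ≠ b) (had : a ≠ d) (hbd : b ≠ d) (ha : a ^ N = c) (hb : b ^ N = c) (hd : d ^ N = c) :
    (X - C a) ^ 2 * ((X - C b) * (X - C d)) ∣ X ^ (p * N) - C (c ^ p) := by
  refine ((coprime_linear hab).pow_left.mul_right (coprime_linear had).pow_left).mul_dvd
    (sq_dvd_step p ha) ?_
  rw [mul_comm p N, pow_mul, C_pow, ← sub_pow_char]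
  exact (dvd_two hbd hb hd).trans (dvd_pow_self _ (Fact.out : p.Prime).ne_zero)

theorem dvd_pow_one (p : ℕ) [Fact p.Prime] [CharP K p] {e : K} (he : e * e = 1) {n k : ℕ}
    (hn : n ≤ p ^ k) : ∃ c : K, c * c = 1 ∧ (X - C e) ^ n ∣ X ^ (p ^ k) - C c := by
  refine ⟨e ^ p ^ k, by rw [← mul_pow, he, one_pow], ?_⟩
  rw [C_pow, ← sub_pow_char_pow]
  exact pow_dvd_pow _ hn

/-- An element with `g ^ k` trivial only at multiples of `n`, and `g ^ n` trivial, has order `n`. -/
theorem orderOf_eq_of {G : Type*} [Monoid G] {g : G} {n : ℕ} (h1 : g ^ n = 1)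
    (h2 : ∀ k, g ^ k = 1 → n ∣ k) : orderOf g = n :=
  Nat.dvd_antisymm (orderOf_dvd_of_pow_eq_one h1) (h2 _ (pow_orderOf_eq_one g))

end Orders

section Frobenius

variable {F K : Type*} [Field F] [Fintype F] [Field K] (ι : F →+* K)

theorem hom_pow_card (c : F) : ι c ^ Fintype.card F = ι c := by
  rw [← map_pow, FiniteField.pow_card]

theorem exists_of_pow_card {x : K} (hx : x ^ Fintype.card F = x) : ∃ c : F, ι c = x := by
  classical
  by_contra hne
  push Not at hne
  have hP : (X ^ Fintype.card F - X : K[X]) ≠ 0 := FiniteField.X_pow_card_sub_X_ne_zero K Fintype.one_lt_card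
  have hsub : (insert x (Finset.univ.image ι)).val ⊆ (X ^ Fintype.card F - X : K[X]).roots := by
    intro y hy
    rw [Finset.mem_val, Finset.mem_insert, Finset.mem_image] at hy
    rw [mem_roots hP]
    rcases hy with rfl | ⟨c, -, rfl⟩
    · simp [IsRoot, hx]
    · simp [IsRoot, hom_pow_card]
  have h1 := Multiset.card_le_card ((Multiset.le_iff_subset (Finset.nodup _)).2 hsub)
  have h2 := card_roots' (X ^ Fintype.card F - X : K[X])
  rw [FiniteField.X_pow_card_sub_X_natDegree_eq K Fintype.one_lt_card] at h2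
  rw [Finset.card_val, Finset.card_insert_of_notMem (by simpa using hne),
    Finset.card_image_of_injective _ ι.injective, Finset.card_univ] at h1
  omega

/-- Roots of a polynomial over `F` are permuted by the Frobenius map. -/
theorem root_pow_card {P : F[X]} {r : K} (hr : (P.map ι).IsRoot r) :
    (P.map ι).IsRoot (r ^ Fintype.card F) := by
  have h := congrArg (fun Q => eval₂ ι r Q) (FiniteField.expand_card P)
  simp only [expand_eq_comp_X_pow, eval₂_comp, eval₂_X, eval₂_pow] at h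
  rw [IsRoot.def, eval_map] at hr ⊢
  rw [h, hr, zero_pow Fintype.card_ne_zero]

theorem pow_prime_pow_inj (p n : ℕ) [Fact p.Prime] [CharP K p] {x y : K}
    (h : x ^ p ^ n = y ^ p ^ n) : x = y :=
  iterateFrobenius_inj K p n h

theorem pow_eq_self_or_inv {r : K} (hr : r ≠ 0) {q : ℕ} (hq : 0 < q) :
    (r ^ (q - 1) = 1 ∨ r ^ (q + 1) = 1) ↔ (r ^ q = r ∨ r ^ q = r⁻¹) := by
  constructor
  · rintro (h | h)
    · left
      conv_lhs => rw [show q = (q - 1) + 1 by omega, pow_succ, h, one_mul]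
    · right
      exact eq_inv_of_mul_eq_one_left (by rw [← pow_succ, h])
  · rintro (h | h)
    · left
      rw [show q = (q - 1) + 1 by omega, pow_succ] at h
      simpa [hr] using h
    · right
      rw [pow_succ, h, inv_mul_cancel₀ hr]

end Frobenius

end Cfsg.Agent.Lead.SpFourSpectrum
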