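import Cfsg.Agent.Lib.Lead.SpFourSpectrum.ModTwoLower

/-!
The extension realising the spectrum in characteristic three.
-/

set_option autoImplicit false
set_option linter.unusedSimpArgs false

open Matrix Polynomial
open scoped Kronecker

namespace Cfsg.Agent.Lead.SpFourSpectrum

theorem kron_annihilated {K : Type*} [Field K] {m n : Type*} [Fintype m] [DecidableEq m] [Fintype n]
    [DecidableEq n] {u : Matrix m m K} {w : Matrix n n K} {a b c d : K}
    (hu : aeval u ((Polynomial.X - C a) * (Polynomial.X - C b)) = 0)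
    (hw : aeval w ((Polynomial.X - C c) * (Polynomial.X - C d)) = 0) :
    aeval (u ⊗ₖ w) (∏ i, (Polynomial.X - C (![a * c, a * d, b * c, b * d] i))) = 0 := by
  obtain ⟨U, hU⟩ : ∃ U, U = u ⊗ₖ (1 : Matrix n n K) := ⟨_, rfl⟩
  obtain ⟨W, hW⟩ : ∃ W, W = (1 : Matrix m m K) ⊗ₖ w := ⟨_, rfl⟩
  have hUW : U * W = u ⊗ₖ w := by rw [hU, hW, ← Matrix.mul_kronecker_mul, mul_one, one_mul]
  have hc : Commute U W := by
    rw [Commute, SemiconjBy, hU, hW, ← Matrix.mul_kronecker_mul, ← Matrix.mul_kronecker_mul,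
      mul_one, one_mul, mul_one, one_mul]
  simp only [map_mul, map_sub, aeval_X, aeval_C, Algebra.algebraMap_eq_smul_one] at hu hw
  have hu2 : (U - algebraMap K _ a) * (U - algebraMap K _ b) = 0 := by
    have e : ∀ x : K, U - algebraMap K _ x = (u - x • 1) ⊗ₖ (1 : Matrix n n K) := fun x => by
      rw [hU, Algebra.algebraMap_eq_smul_one, ← Matrix.one_kronecker_one, ← Matrix.smul_kronecker]
      ext i j
      simp [sub_mul]
    rw [e, e, ← Matrix.mul_kronecker_mul, hu, Matrix.zero_kronecker]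
  have hw2 : (W - algebraMap K _ c) * (W - algebraMap K _ d) = 0 := by
    have e : ∀ x : K, W - algebraMap K _ x = (1 : Matrix m m K) ⊗ₖ (w - x • 1) := fun x => by
      rw [hW, Algebra.algebraMap_eq_smul_one, ← Matrix.one_kronecker_one, ← Matrix.kronecker_smul]
      ext i j
      simp [mul_sub]
    rw [e, e, ← Matrix.mul_kronecker_mul, hw, Matrix.kronecker_zero]
  let R := Algebra.adjoin K ({U, W} : Set (Matrix (m × n) (m × n) K))
  letI : CommRing R := Algebra.adjoinCommRingOfComm K (by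
    rintro x (rfl | rfl) y (rfl | rfl)
    exacts [rfl, hc.eq, hc.symm.eq, rfl])
  obtain ⟨u', hu'⟩ : ∃ u' : R, (u' : Matrix (m × n) (m × n) K) = U :=
    ⟨⟨U, Algebra.subset_adjoin (Or.inl rfl)⟩, rfl⟩
  obtain ⟨w', hw'⟩ : ∃ w' : R, (w' : Matrix (m × n) (m × n) K) = W :=
    ⟨⟨W, Algebra.subset_adjoin (Or.inr rfl)⟩, rfl⟩
  have hu3 : (u' - algebraMap K R a) * (u' - algebraMap K R b) = 0 := by
    apply Subtype.ext
    simpa [hu'] using hu2
  have hw3 : (w' - algebraMap K R c) * (w' - algebraMap K R d) = 0 := by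
    apply Subtype.ext
    simpa [hw'] using hw2
  have key : aeval (u' * w') (∏ i, (Polynomial.X - C (![a * c, a * d, b * c, b * d] i))) = 0 := by
    simp only [Fin.prod_univ_four, map_mul, map_sub, aeval_X, aeval_C, Matrix.cons_val_zero,
      Matrix.cons_val_one, Matrix.cons_val, map_mul]
    obtain ⟨A, hA⟩ : ∃ A, A = algebraMap K R a := ⟨_, rfl⟩
    obtain ⟨B, hB⟩ : ∃ B, B = algebraMap K R b := ⟨_, rfl⟩
    obtain ⟨Γ, hΓ⟩ : ∃ Γ, Γ = algebraMap K R c := ⟨_, rfl⟩
    obtain ⟨Δ, hΔ⟩ : ∃ Δ, Δ = algebraMap K R d := ⟨_, rfl⟩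
    rw [← hA, ← hB] at hu3
    rw [← hΓ, ← hΔ] at hw3
    rw [← hA, ← hB, ← hΓ, ← hΔ]
    have e1 : (u' * w' - A * Γ) * (u' * w' - A * Δ) =
        (u' - A) * ((Γ + Δ) * u' * w' - Γ * Δ * (u' + A)) := by linear_combination u' ^ 2 * hw3
    have e2 : (u' * w' - B * Γ) * (u' * w' - B * Δ) =
        (u' - B) * ((Γ + Δ) * u' * w' - Γ * Δ * (u' + B)) := by linear_combination u' ^ 2 * hw3
    calc _ = ((u' * w' - A * Γ) * (u' * w' - A * Δ)) * ((u' * w' - B * Γ) * (u' * w' - B * Δ)) := by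
          ring
      _ = ((u' - A) * (u' - B)) * (((Γ + Δ) * u' * w' - Γ * Δ * (u' + A)) *
          ((Γ + Δ) * u' * w' - Γ * Δ * (u' + B))) := by rw [e1, e2]; ring
      _ = 0 := by rw [hu3, zero_mul]
  have h := congrArg (Subalgebra.val R) key
  rw [map_zero, ← aeval_algHom_apply] at h
  simpa [hu', hw', hUW] using h

theorem common_root {K : Type*} [Field K] (v w : Fin 4 → K)
    (h : ¬ IsCoprime (∏ i, (Polynomial.X - C (v i))) (∏ j, (Polynomial.X - C (w j)))) :
    ∃ i j, v i = w j := by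
  by_contra hne
  push Not at hne
  exact h (IsCoprime.prod_left fun i _ => IsCoprime.prod_right fun j _ => coprime_linear (hne i j))

section

variable {E : Type} [Field E] [Fintype E] (f : ℕ) [CharP E 3]

local notation "SL" => Matrix.SpecialLinearGroup (Fin 2) E
local notation "M4" => Matrix (Fin 2 × Fin 2) (Fin 2 × Fin 2) E

instance : Fact (Nat.Prime 3) := ⟨Nat.prime_three⟩

/-- The square of the natural module. -/
def sqHom : SL →* M4 where
  toFun g := g.1 ⊗ₖ g.1
  map_one' := by rw [Matrix.SpecialLinearGroup.coe_one, Matrix.one_kronecker_one]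
  map_mul' g h := by rw [Matrix.SpecialLinearGroup.coe_mul, Matrix.mul_kronecker_mul]

/-- The twisted product of two natural modules. -/
noncomputable def mixHom : SL →* M4 where
  toFun g := (twist 3 f g).1 ⊗ₖ (twist 3 (f + 1) g).1
  map_one' := by rw [map_one, map_one, Matrix.SpecialLinearGroup.coe_one, Matrix.one_kronecker_one]
  map_mul' g h := by
    rw [map_mul, map_mul, Matrix.SpecialLinearGroup.coe_mul, Matrix.SpecialLinearGroup.coe_mul,
      Matrix.mul_kronecker_mul]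

/-- The representation. -/
noncomputable def rhoThree : SL →* (Module.End E M4)ˣ := biHom sqHom (mixHom f)

theorem rhoThree_apply (g : SL) (X : M4) :
    ((rhoThree f g : (Module.End E M4)ˣ) : Module.End E M4) X =
      (g.1 ⊗ₖ g.1) * X * ((twist 3 f g).1 ⊗ₖ (twist 3 (f + 1) g).1)ᵀ :=
  biHom_apply _ _ g X

theorem neg_kron_neg {R : Type*} [CommRing R] {m n : Type*} (A : Matrix m m R) (B : Matrix n n R) :
    (-A) ⊗ₖ (-B) = A ⊗ₖ B := by
  ext i j
  simp

theorem rhoThree_pow {g : SL} {N : ℕ} (h : g.1 ^ N = 1 ∨ g.1 ^ N = -1) : rhoThree f g ^ N = 1 := by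
  rw [← map_pow]
  refine Units.ext (LinearMap.ext fun X => ?_)
  rw [rhoThree_apply, twist_val, twist_val, Matrix.SpecialLinearGroup.coe_pow]
  rcases h with h | h <;> rw [h] <;> simp [Matrix.map_neg, neg_kron_neg, Matrix.one_kronecker_one]

theorem of_rhoThree_pow {g : SL} {k : ℕ} (h : rhoThree f g ^ k = 1) : g.1 ^ k = 1 ∨ g.1 ^ k = -1 := by
  rw [← map_pow] at h
  rw [← Matrix.SpecialLinearGroup.coe_pow]
  generalize g ^ k = g at h ⊢
  obtain ⟨c, hc⟩ := scalar_of_bi_eq_one (A := sqHom g) (B := mixHom f g) (B' := mixHom f g⁻¹)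
    (by rw [← map_mul, mul_inv_cancel, map_one])
    (fun X => by rw [← biHom_apply]; exact congrArg (fun z => ((z : (Module.End E M4)ˣ) : Module.End E M4) X) h)
  have he : ∀ i j k l : Fin 2, g.1 i j * g.1 k l = (c • (1 : M4)) (i, k) (j, l) := fun i j k l => by
    rw [← hc]; rfl
  have e10 : g.1 1 0 = 0 := by have := he 1 0 1 0; simp at this; exact this
  have e01 : g.1 0 1 = 0 := by have := he 0 1 0 1; simp at this; exact this
  have e00 := he 0 0 0 0
  have e11 := he 1 1 1 1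
  have emx := he 0 0 1 1
  simp at e00 e11 emx
  have hdet := g.2
  rw [Matrix.det_fin_two, e01, zero_mul, sub_zero] at hdet
  rw [← e00] at emx e11
  have h0 : g.1 0 0 ≠ 0 := left_ne_zero_of_mul_eq_one hdet
  have heq : g.1 1 1 = g.1 0 0 := mul_left_cancel₀ h0 emx
  rw [heq] at hdet
  rcases mul_self_eq_one_iff.1 hdet with h1 | h1
  · left; ext i j; fin_cases i <;> fin_cases j <;> simp [e10, e01, heq, h1]
  · right; ext i j; fin_cases i <;> fin_cases j <;> simp [e10, e01, heq, h1]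

variable {q : ℕ} (hq : q = 3 ^ f) (hf : Even f) (hE : Fintype.card E = q ^ 2)

include hq hf in
theorem exponent_cases {K : Type*} [Field K] [CharP K 3] {r : K} (hr : r ≠ 0)
    (hord : r ^ (q ^ 2 - 1) = 1 ∨ r ^ (q ^ 2 + 1) = 1) {i j : Fin 4}
    (h : (![r * r, r * r⁻¹, r⁻¹ * r, r⁻¹ * r⁻¹] i) =
      ![r ^ q * r ^ (3 * q), r ^ q * (r ^ (3 * q))⁻¹, (r ^ q)⁻¹ * r ^ (3 * q),
        (r ^ q)⁻¹ * (r ^ (3 * q))⁻¹] j) :
    (r ^ 2) ^ (q - 1) = 1 ∨ (r ^ 2) ^ (q + 1) = 1 := by
  have hq0 : 0 < q := hq ▸ pow_pos (by norm_num) f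
  have hodd : Odd q := hq ▸ (by decide : Odd 3).pow
  obtain ⟨s, hs⟩ : ∃ s, r ^ 2 = s := ⟨_, rfl⟩
  have hs0 : s ≠ 0 := hs ▸ pow_ne_zero 2 hr
  rw [hs]
  refine (pow_eq_self_or_inv hs0 hq0).2 ?_
  have cube : ∀ x : K, x ^ 3 = 1 → x = 1 := fun x hx => by
    have : (x - 1) ^ 3 = 0 := by rw [sub_pow_char, hx, one_pow, sub_self]
    exact sub_eq_zero.1 (eq_zero_of_pow_eq_zero this)
  have small : s ^ 2 = 1 → s ^ q = s ∨ s ^ q = s⁻¹ := fun h2 => by
    obtain ⟨a, ha⟩ := hodd
    left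
    rw [ha, pow_succ, pow_mul, h2, one_pow, one_mul]
  have four : s ^ (2 * q) = 1 → s ^ q = s ∨ s ^ q = s⁻¹ := fun h4 => small (by
    rw [pow_mul] at h4
    exact pow_prime_pow_inj 3 f (by rw [← hq, h4, one_pow]))
  have big : (s = s ^ (2 * q) ∨ s⁻¹ = s ^ (2 * q)) → s ^ q = s ∨ s ^ q = s⁻¹ := by
    intro hb
    have h16 : s ^ (4 * q ^ 2) = s := by
      rw [show 4 * q ^ 2 = 2 * q * (2 * q) by ring, pow_mul]
      rcases hb with e | e
      · rw [← e, ← e]
      · rw [← e, inv_pow, ← e, inv_inv]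
    refine small ?_
    rcases hord with h1 | h1
    · have h2 : s ^ (q ^ 2 - 1) = 1 := by rw [← hs, ← pow_mul, Nat.mul_comm, pow_mul, h1, one_pow]
      have h3 : s ^ 4 = s := by
        conv_rhs => rw [← h16]
        rw [show 4 * q ^ 2 = (q ^ 2 - 1) * 4 + 4 by have := Nat.one_le_pow 2 q hq0; omega, pow_add,
          pow_mul, h2, one_pow, one_mul]
      rw [pow_succ] at h3
      have h4 : s ^ 3 = 1 := by simpa [hs0] using h3
      rw [cube s h4, one_pow]
    · have h2 : s ^ (q ^ 2 + 1) = 1 := by rw [← hs, ← pow_mul, Nat.mul_comm, pow_mul, h1, one_pow]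
      have h3 : s ^ 5 = 1 := by
        have e : s ^ (4 * q ^ 2) * s ^ 4 = 1 := by
          rw [← pow_add, show 4 * q ^ 2 + 4 = (q ^ 2 + 1) * 4 by ring, pow_mul, h2, one_pow]
        rw [h16, ← pow_succ'] at e
        exact e
      obtain ⟨k, hk⟩ : ∃ k, q ^ 2 + 1 = 5 * k + 2 := by
        obtain ⟨m, rfl⟩ := hf
        have h81 : q ^ 2 % 5 = 1 := by
          rw [hq, ← pow_mul, show (m + m) * 2 = 4 * m by ring, pow_mul, Nat.pow_mod]
          norm_num
        exact ⟨q ^ 2 / 5, by omega⟩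
      rw [hk, pow_add, pow_mul, h3, one_pow, one_mul] at h2
      exact h2
  have E2 : r ^ q * (r ^ (3 * q))⁻¹ = (s ^ q)⁻¹ := by
    rw [← hs, ← pow_mul, show 3 * q = q + 2 * q by ring, pow_add, mul_inv, ← mul_assoc,
      mul_inv_cancel₀ (pow_ne_zero _ hr), one_mul]
  have E3 : (r ^ q)⁻¹ * r ^ (3 * q) = s ^ q := by
    rw [← hs, ← pow_mul, show 3 * q = q + 2 * q by ring, pow_add, ← mul_assoc,
      inv_mul_cancel₀ (pow_ne_zero _ hr), one_mul]
  have E1 : r ^ q * r ^ (3 * q) = s ^ (2 * q) := by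
    rw [← hs, ← pow_mul, ← pow_add]; congr 1; ring
  have E4 : (r ^ q)⁻¹ * (r ^ (3 * q))⁻¹ = (s ^ (2 * q))⁻¹ := by rw [← mul_inv, E1]
  rw [E1, E2, E3, E4, mul_inv_cancel₀ hr, inv_mul_cancel₀ hr, ← sq, hs, ← mul_inv, ← sq, hs] at h
  have hone : ∀ b, (1 : K) = ![s ^ (2 * q), (s ^ q)⁻¹, s ^ q, (s ^ (2 * q))⁻¹] b →
      s ^ q = s ∨ s ^ q = s⁻¹ := by
    intro b hb
    fin_cases b <;> simp at hb
    · exact four hb.symm
    · exact four (by rw [Nat.mul_comm, pow_mul, hb, one_pow])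
    · exact four (by rw [Nat.mul_comm, pow_mul, ← hb, one_pow])
    · exact four hb
  fin_cases i
  · fin_cases j <;> simp at h
    · exact big (Or.inl h)
    · exact Or.inr (inv_eq_iff_eq_inv.2 h).symm
    · exact Or.inl h.symm
    · exact big (Or.inr (inv_eq_iff_eq_inv.2 h))
  · exact hone j (by simpa using h)
  · exact hone j (by simpa using h)
  · fin_cases j <;> simp at h
    · exact big (Or.inr h)
    · exact Or.inl h.symm
    · exact Or.inr h.symm
    · exact big (Or.inl h)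

include hq hf hE in
theorem fixed_exponent {g : SL} (h4 : g.1.trace ^ 2 ≠ 4) {X : M4} (hX : X ≠ 0)
    (hfix : (g.1 ⊗ₖ g.1) * X * ((twist 3 f g).1 ⊗ₖ (twist 3 (f + 1) g).1)ᵀ = X) :
    g.1 ^ (q - 1) = 1 ∨ g.1 ^ (q - 1) = -1 ∨ g.1 ^ (q + 1) = 1 ∨ g.1 ^ (q + 1) = -1 := by
  let K := AlgebraicClosure E
  let ι := algebraMap E K
  haveI : CharP K 3 := (RingHom.charP_iff ι ι.injective 3).1 inferInstance
  obtain ⟨r, hr, hrt⟩ := exists_trace_root (ι g.1.trace)
  have hne : r ≠ r⁻¹ := fun h => h4 (ι.injective (by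
    have h1 : r * r = 1 := by nth_rw 2 [h]; exact mul_inv_cancel₀ hr
    rw [map_pow, ← hrt, ← h, map_ofNat]
    linear_combination 4 * h1))
  have hord : r ^ (q ^ 2 - 1) = 1 ∨ r ^ (q ^ 2 + 1) = 1 :=
    root_pow_cases 3 (m := q ^ 2) (e := 2 * f) (by rw [hq, ← pow_mul, Nat.mul_comm]) hr
      (by rw [hrt, ← map_pow, ← hE, FiniteField.pow_card])
  -- annihilators
  have tr_map : ∀ h : SL, (h.1.map ι).trace = ι h.1.trace := fun h => by
    rw [Matrix.trace_fin_two, Matrix.trace_fin_two]; simp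
  have det_map : ∀ h : SL, (h.1.map ι).det = 1 := fun h => by
    rw [← RingHom.mapMatrix_apply, ← RingHom.map_det, h.2, map_one]
  have hinvtr : ∀ h : SL, (h⁻¹).1.trace = h.1.trace := fun h => by
    rw [Matrix.SpecialLinearGroup.coe_inv, Matrix.adjugate_fin_two, Matrix.trace_fin_two,
      Matrix.trace_fin_two]
    simp [add_comm]
  have htw : ∀ m, ι (twist 3 m g).1.trace = r ^ 3 ^ m + (r ^ 3 ^ m)⁻¹ := fun m => by
    rw [show (twist 3 m g).1.trace = g.1.trace ^ 3 ^ m by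
      rw [twist_val, Matrix.trace_fin_two, Matrix.trace_fin_two]
      simp [iterateFrobenius_def, add_pow_char_pow], map_pow, ← hrt, add_pow_char_pow, inv_pow]
  have hA : aeval ((g.1.map ι) ⊗ₖ (g.1.map ι))
      (∏ i, (Polynomial.X - C (![r * r, r * r⁻¹, r⁻¹ * r, r⁻¹ * r⁻¹] i))) = 0 :=
    kron_annihilated (aeval_quadratic (det_map g) hr (by rw [tr_map]; exact hrt))
      (aeval_quadratic (det_map g) hr (by rw [tr_map]; exact hrt))
  have hC : aeval (((twist 3 f g)⁻¹.1.map ι)ᵀ ⊗ₖ ((twist 3 (f + 1) g)⁻¹.1.map ι)ᵀ)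
      (∏ j, (Polynomial.X - C (![r ^ q * r ^ (3 * q), r ^ q * (r ^ (3 * q))⁻¹,
        (r ^ q)⁻¹ * r ^ (3 * q), (r ^ q)⁻¹ * (r ^ (3 * q))⁻¹] j))) = 0 := by
    refine kron_annihilated (aeval_quadratic (by rw [det_transpose, det_map]) (pow_ne_zero _ hr) ?_)
      (aeval_quadratic (by rw [det_transpose, det_map]) (pow_ne_zero _ hr) ?_)
    · rw [trace_transpose, tr_map, hinvtr, htw, hq]
    · rw [trace_transpose, tr_map, hinvtr, htw, hq, pow_succ']
  have hX' : X.map ι ≠ 0 := fun h => hX (Matrix.map_injective ι.injective (by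
    dsimp only; rw [h, Matrix.map_zero _ (map_zero ι)]))
  have hinter : ((g.1.map ι) ⊗ₖ (g.1.map ι)) * X.map ι =
      X.map ι * (((twist 3 f g)⁻¹.1.map ι)ᵀ ⊗ₖ ((twist 3 (f + 1) g)⁻¹.1.map ι)ᵀ) := by
    have h1 : (g.1 ⊗ₖ g.1) * X =
        X * ((twist 3 f g)⁻¹.1ᵀ ⊗ₖ (twist 3 (f + 1) g)⁻¹.1ᵀ) := by
      conv_rhs => rw [← hfix]
      have hone : ∀ h : SL, h.1ᵀ * (h⁻¹).1ᵀ = 1 := fun h => by
        rw [← transpose_mul, ← Matrix.SpecialLinearGroup.coe_mul, inv_mul_cancel,
          Matrix.SpecialLinearGroup.coe_one, transpose_one]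
      rw [mul_assoc ((g.1 ⊗ₖ g.1) * X), ← Matrix.kroneckerMap_transpose, ← Matrix.mul_kronecker_mul,
        hone, hone, Matrix.one_kronecker_one, mul_one]
    have h2 := congrArg (fun M : M4 => M.map ι) h1
    simp only [Matrix.map_mul] at h2
    have ek : ∀ A B : Matrix (Fin 2) (Fin 2) E, (A ⊗ₖ B).map ι = A.map ι ⊗ₖ B.map ι := fun A B => by
      ext i j
      simp
    rw [ek, ek, Matrix.transpose_map, Matrix.transpose_map] at h2
    exact h2
  obtain ⟨i, j, hij⟩ := common_root _ _ (not_coprime_of_intertwine hX' hinter hA hC)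
  rcases exponent_cases f hq hf hr hord hij with h | h
  · rw [← pow_mul, Nat.mul_comm, pow_mul, sq_eq_one_iff] at h
    rcases pow_map_eq ι g.2 hr hne hrt h with h' | h'
    · exact Or.inl h'
    · exact Or.inr (Or.inl h')
  · rw [← pow_mul, Nat.mul_comm, pow_mul, sq_eq_one_iff] at h
    exact Or.inr (Or.inr (pow_map_eq ι g.2 hr hne hrt h))

include hq hf hE in
theorem range_three : Set.range (orderOf : Ext (rhoThree (E := E) f).range → ℕ) = good 3 q := by
  obtain ⟨hq2, -, hp1, hp2, hp3, hsq⟩ := q_facts 3 f hq hE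
  obtain ⟨-, -, e1, e2⟩ := half_dvd Nat.prime_three (by norm_num : 3 ≠ 2) hq
  obtain ⟨e3, e4, -, -⟩ := half_dvd Nat.prime_three (by norm_num : 3 ≠ 2) hq
  refine range_eq (fun x => ?_) (fun n hn => ?_)
  · obtain ⟨v, γ, rfl⟩ := exists_mk x
    obtain ⟨g, hg⟩ := γ.2
    have hpow : ∀ N, (g.1 ^ N = 1 ∨ g.1 ^ N = -1) → γ ^ N = 1 := fun N h =>
      Subtype.ext (by rw [SubmonoidClass.coe_pow, ← hg, rhoThree_pow f h]; rfl)
    by_cases h4 : g.1.trace ^ 2 = 4
    · obtain ⟨-, -, -, hp⟩ := sl2_unipotent 3 g.2 h4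
      exact ⟨9, Or.inr (Or.inr (Or.inl ⟨rfl, rfl⟩)), pow_mul_eq_one 3 v (hpow 3 hp)⟩
    · obtain ⟨N, hN, hgN⟩ := sl2_pow 3 (m := q ^ 2) (e := 2 * f) (by rw [hq, ← pow_mul, Nat.mul_comm])
        g.2 (by rw [← hE, FiniteField.pow_card]) h4
      rcases pow_eq_one_or_fixed v (hpow N hgN) with h | ⟨w, hw, hfix⟩
      · exact ⟨N, exp_bound 3 f hq hE hN, h⟩
      · rw [← hg, rhoThree_apply] at hfix
        rcases fixed_exponent f hq hf hE h4 hw hfix with h | h | h | h
        · exact ⟨_, Or.inr (Or.inr (Or.inr (Or.inl rfl))), pow_mul_eq_one 3 v (hpow _ (Or.inl h))⟩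
        · exact ⟨_, Or.inr (Or.inr (Or.inr (Or.inl rfl))), pow_mul_eq_one 3 v (hpow _ (Or.inr h))⟩
        · exact ⟨_, Or.inr (Or.inr (Or.inr (Or.inr rfl))), pow_mul_eq_one 3 v (hpow _ (Or.inl h))⟩
        · exact ⟨_, Or.inr (Or.inr (Or.inr (Or.inr rfl))), pow_mul_eq_one 3 v (hpow _ (Or.inr h))⟩
  · have large : ∀ N, (N = q ^ 2 - 1 ∨ N = q ^ 2 + 1) → ∀ m, 2 * m = N →
        ∃ x : Ext (rhoThree (E := E) f).range, orderOf x = m := by
      intro N hN m hm
      obtain ⟨g, hg⟩ := exists_large 3 q f hq hE hN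
      refine exists_orderOf_of_dvd (mk (0 : M4) (⟨rhoThree f g, g, rfl⟩ : ↥(rhoThree (E := E) f).range))
        fun k hk => dvd_of_inr (fun j hj => ?_) hk
      have h1 := congrArg Subtype.val hj
      rw [SubmonoidClass.coe_pow] at h1
      have h2 := hg j (by simpa [Matrix.SpecialLinearGroup.coe_pow] using of_rhoThree_pow f (g := g) (k := j) h1)
      rw [← hm] at h2
      exact Nat.dvd_of_mul_dvd_mul_left two_pos h2
    have small : ∀ N, (N = q - 1 ∨ N = q + 1) →
        ∃ x : Ext (rhoThree (E := E) f).range, orderOf x = 3 * N := by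
      intro N hN
      have hpN : ¬ 3 ∣ N := by rcases hN with rfl | rfl <;> assumption
      obtain ⟨a, ha, hord⟩ := exists_order_in (E := E) 3 (N := 2 * N)
        (fun h => hpN ((Nat.Coprime.dvd_mul_left (by decide)).1 h)) (by
          rw [hE, hsq]
          rcases hN with rfl | rfl
          · rw [← e2, Nat.mul_comm, ← Nat.mul_assoc]; exact dvd_mul_right _ _
          · rw [← e1, Nat.mul_comm (2 * _) (q + 1), Nat.mul_comm 2 (q + 1), ← Nat.mul_assoc]
            exact dvd_mul_right _ _)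
      have haN : a ^ (2 * N) = 1 := hord ▸ pow_orderOf_eq_one a
      obtain ⟨g, hg⟩ : ∃ g : SL, g = diagSL a ha := ⟨_, rfl⟩
      have hd1 : g.1 = Matrix.diagonal ![a, a⁻¹] := by
        rw [hg, diagSL_val]
        ext i j
        fin_cases i <;> fin_cases j <;> simp
      have hd2 : ∀ m, (twist 3 m g).1 = Matrix.diagonal ![a ^ 3 ^ m, (a ^ 3 ^ m)⁻¹] := fun m => by
        rw [hg, twist_diag 3 m rfl]
        ext i j
        fin_cases i <;> fin_cases j <;> simp
      obtain ⟨kl, hkl⟩ : ∃ kl : Fin 2 × Fin 2, a * a *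
          (![a ^ 3 ^ f, (a ^ 3 ^ f)⁻¹] kl.1 * ![a ^ 3 ^ (f + 1), (a ^ 3 ^ (f + 1))⁻¹] kl.2) = 1 := by
        rw [pow_succ', ← hq]
        rcases hN with rfl | rfl
        · refine ⟨(0, 1), ?_⟩
          have h1 : a ^ (2 * q) = a ^ 2 := by
            conv_lhs => rw [show 2 * q = 2 * (q - 1) + 2 by omega, pow_add, haN, one_mul]
          simp only [Matrix.cons_val_zero, Matrix.cons_val_one, Matrix.cons_val]
          rw [show 3 * q = q + 2 * q by ring, pow_add, h1, mul_inv, ← mul_assoc (a ^ q),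
            mul_inv_cancel₀ (pow_ne_zero _ ha), one_mul, ← sq, mul_inv_cancel₀ (pow_ne_zero _ ha)]
        · refine ⟨(1, 0), ?_⟩
          simp only [Matrix.cons_val_zero, Matrix.cons_val_one, Matrix.cons_val]
          rw [show 3 * q = q + 2 * q by ring, pow_add, ← mul_assoc (a ^ q)⁻¹,
            inv_mul_cancel₀ (pow_ne_zero _ ha), one_mul, ← sq, ← pow_add, ← haN]
          congr 1; ring
      obtain ⟨v, hv0, hv⟩ : ∃ v : M4, v ≠ 0 ∧
          (g.1 ⊗ₖ g.1) * v * ((twist 3 f g).1 ⊗ₖ (twist 3 (f + 1) g).1)ᵀ = v := by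
        refine ⟨Matrix.single (0, 0) kl 1, fun h => by simpa using congrFun (congrFun h (0, 0)) kl, ?_⟩
        rw [hd1, hd2, hd2, Matrix.diagonal_kronecker_diagonal, Matrix.diagonal_kronecker_diagonal,
          Matrix.diagonal_transpose]
        ext x y
        rw [Matrix.mul_diagonal, Matrix.diagonal_mul]
        by_cases hxy : (0, 0) = x ∧ kl = y
        · obtain ⟨rfl, rfl⟩ := hxy
          rw [Matrix.single_apply_same, mul_one]
          simpa using hkl
        · rw [Matrix.single_apply_of_ne (h := hxy), mul_zero, zero_mul]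
      refine exists_orderOf_of_dvd
        (mk v (⟨rhoThree f g, g, rfl⟩ : ↥(rhoThree (E := E) f).range)) fun m hm => ?_
      refine dvd_of_fixed 3 hv0 (by rw [rhoThree_apply]; exact hv) (fun j hj => ?_) hpN hm
      have h1 := congrArg Subtype.val hj
      rw [SubmonoidClass.coe_pow] at h1
      have h3 := dvd_of_pow_two_mul hord (eigen_sign (of_rhoThree_pow f h1) (v := ![1, 0]) (r := a)
        (fun h => by simpa using congrFun h 0)
        (by rw [hg, diagSL_val]; funext i; fin_cases i <;> simp [Matrix.mulVec, dotProduct, Fin.sum_univ_two]))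
      exact Nat.dvd_of_mul_dvd_mul_left two_pos h3
    rcases hn with ⟨h, -⟩ | ⟨-, hn | hn⟩ | ⟨-, hn⟩ | rfl | rfl
    · omega
    · exact large _ (Or.inr rfl) n (hn ▸ e4)
    · exact large _ (Or.inl rfl) n (hn ▸ e3)
    · subst hn
      obtain ⟨g, hg⟩ : ∃ g : SL, g.1 = !![1, 1; 0, 1] :=
        ⟨⟨!![1, 1; 0, 1], by simp [Matrix.det_fin_two]⟩, rfl⟩
      have hgpow : ∀ k : ℕ, (g ^ k).1 = !![1, (k : E); 0, 1] := by
        intro k
        induction k with
        | zero =>
          rw [pow_zero, Matrix.SpecialLinearGroup.coe_one, Nat.cast_zero, Matrix.one_fin_two]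
        | succ k ih =>
          rw [pow_succ, Matrix.SpecialLinearGroup.coe_mul, ih, hg, Matrix.mul_fin_two]
          ext i j
          fin_cases i <;> fin_cases j <;> simp [add_comm]
      have h3 : (3 : E) = 0 := by exact_mod_cast CharP.cast_eq_zero E 3
      have htw : ∀ k m : ℕ, (twist 3 m (g ^ k)).1 = !![1, (k : E); 0, 1] := by
        intro k m
        rw [twist_val, hgpow]
        ext i j
        fin_cases i <;> fin_cases j <;> simp
      obtain ⟨γ, hγ⟩ : ∃ γ : ↥(rhoThree (E := E) f).range, γ.1 = rhoThree f g := ⟨⟨_, g, rfl⟩, rfl⟩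
      refine ⟨mk (Matrix.single (1, 1) (1, 1) (1 : E)) γ, orderOf_prime_sq 3 ?_ ?_⟩
      · refine Subtype.ext ?_
        rw [SubmonoidClass.coe_pow, hγ, rhoThree_pow f (Or.inl ?_)]
        · rfl
        · rw [← Matrix.SpecialLinearGroup.coe_pow, hgpow, Nat.cast_ofNat, h3, Matrix.one_fin_two]
      · intro h
        have hterm : ∀ k : ℕ, ((γ.1.1 : Module.End E M4) ^ k)
            (Matrix.single (1, 1) (1, 1) (1 : E)) (0, 0) (0, 0) = (k : E) ^ 4 := by
          intro k
          rw [← Units.val_pow_eq_pow_val, hγ, ← map_pow, rhoThree_apply, hgpow, htw, htw]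
          rw [Matrix.mul_apply, Finset.sum_eq_single (1, 1), Matrix.mul_apply,
            Finset.sum_eq_single (1, 1)]
          · simp [Matrix.single]
            ring
          all_goals simp (config := { contextual := true }) [Matrix.mul_apply, Matrix.single, eq_comm]
        have := congrFun (congrFun h (0, 0)) (0, 0)
        rw [LinearMap.sum_apply, Matrix.sum_apply, Finset.sum_range_succ, Finset.sum_range_succ,
          Finset.sum_range_one, hterm, hterm, hterm] at this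
        simp at this
        have h17 : (17 : E) = 0 := by linear_combination this
        exact one_ne_zero (α := E) (by linear_combination 6 * h3 - h17)
    · exact small _ (Or.inl rfl)
    · exact small _ (Or.inr rfl)

end

end Cfsg.Agent.Lead.SpFourSpectrum
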