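import Cfsg.Agent.Lib.Lead.SpFourSpectrum.Target

/-!
Powers of elements of `SL₂` through their eigenvalues, and the bimodule of two matrix representations.
-/

set_option autoImplicit false

open Matrix Polynomial

namespace Cfsg.Agent.Lead.SpFourSpectrum

section Bi

variable {E : Type*} [Field E] {n : Type*} [Fintype n] [DecidableEq n]

/-- The map `X ↦ A X Bᵀ`. -/
def bi (A B : Matrix n n E) : Module.End E (Matrix n n E) :=
  LinearMap.mulLeft E A * LinearMap.mulRight E Bᵀ

theorem bi_apply (A B X : Matrix n n E) : bi A B X = A * X * Bᵀ := by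
  simp [bi, mul_assoc]

theorem bi_mul (A A' B B' : Matrix n n E) : bi (A * A') (B * B') = bi A B * bi A' B' := by
  refine LinearMap.ext fun X => ?_
  simp [bi_apply, transpose_mul, mul_assoc]

theorem bi_one : bi (1 : Matrix n n E) 1 = 1 := by
  refine LinearMap.ext fun X => ?_
  simp [bi_apply]

/-- The representation on the bimodule. -/
def biHom {G : Type*} [Group G] (a b : G →* Matrix n n E) : G →* (Module.End E (Matrix n n E))ˣ :=
  MonoidHom.toHomUnits
    { toFun := fun g => bi (a g) (b g)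
      map_one' := by rw [map_one, map_one, bi_one]
      map_mul' := fun g h => by rw [map_mul, map_mul, bi_mul] }

theorem biHom_apply {G : Type*} [Group G] (a b : G →* Matrix n n E) (g : G) (X : Matrix n n E) :
    ((biHom a b g : (Module.End E (Matrix n n E))ˣ) : Module.End E (Matrix n n E)) X =
      a g * X * (b g)ᵀ := bi_apply _ _ _

theorem scalar_of_bi_eq_one {A B B' : Matrix n n E} (hB : B * B' = 1)
    (h : ∀ X, A * X * Bᵀ = X) : ∃ c : E, A = c • 1 := by
  have h' : ∀ X, A * X = X * B'ᵀ := fun X => by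
    conv_rhs => rw [← h X, mul_assoc, ← transpose_mul, mul_eq_one_comm.1 hB, transpose_one, mul_one]
  have hA : A = B'ᵀ := by simpa using h' 1
  obtain ⟨c, hc⟩ := Matrix.mem_range_scalar_of_commute_single (M := A)
    (fun i j _ => by
      show Matrix.single i j 1 * A = A * Matrix.single i j 1
      rw [h', hA])
  exact ⟨c, by rw [← hc]; ext i j; by_cases hij : i = j <;> simp [hij, Matrix.one_apply]⟩

/-- A non-zero intertwiner forces a common root of annihilating polynomials. -/
theorem not_coprime_of_intertwine {A C X : Matrix n n E} (hX : X ≠ 0) (h : A * X = X * C)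
    {P Q : E[X]} (hP : aeval A P = 0) (hQ : aeval C Q = 0) : ¬ IsCoprime P Q := by
  rintro ⟨U, V, hUV⟩
  have hpoly : ∀ R : E[X], aeval A R * X = X * aeval C R := by
    intro R
    induction R using Polynomial.induction_on' with
    | add a b ha hb => rw [map_add, map_add, add_mul, mul_add, ha, hb]
    | monomial m c =>
      have hpow : A ^ m * X = X * C ^ m := (show SemiconjBy X C A from h.symm).pow_right m |>.eq.symm
      rw [aeval_monomial, aeval_monomial, mul_assoc, hpow, ← mul_assoc, Algebra.commutes, mul_assoc]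
  refine hX ?_
  have h1 : aeval C (U * P + V * Q) = 1 := by rw [hUV, map_one]
  rw [map_add, map_mul, map_mul, hQ, mul_zero, add_zero] at h1
  calc X = X * (aeval C P * aeval C U) := by
        rw [mul_eq_one_comm.1 h1, mul_one]
    _ = aeval A P * X * aeval C U := by rw [hpoly, mul_assoc]
    _ = 0 := by rw [hP, zero_mul, zero_mul]

end Bi

section SLTwo

variable {E : Type*} [Field E]

theorem adjugate_add_self (A : Matrix (Fin 2) (Fin 2) E) : A + A.adjugate = A.trace • 1 := by
  rw [Matrix.adjugate_fin_two, Matrix.trace_fin_two]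
  ext i j
  fin_cases i <;> fin_cases j <;> simp [add_comm]

/-- A vector fixed under `X ↦ A X Bᵀ` forces equal traces. -/
theorem trace_eq_of_fixed {A B X : Matrix (Fin 2) (Fin 2) E} (hA : A.det = 1) (hB : B.det = 1)
    (hX : X ≠ 0) (h : A * X * Bᵀ = X) : A.trace = B.trace := by
  have h1 : A.adjugate * X = X * Bᵀ := by
    conv_lhs => rw [← h, ← mul_assoc, ← mul_assoc, adjugate_mul, hA, one_smul, one_mul]
  have h2 : A * X = X * Bᵀ.adjugate := by
    conv_rhs => rw [← h, mul_assoc, mul_adjugate, det_transpose, hB, one_smul, mul_one]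
  have h3 : (A.trace - B.trace) • X = 0 := by
    have e1 : (A + A.adjugate) * X = X * (Bᵀ.adjugate + Bᵀ) := by rw [add_mul, mul_add, h1, h2]
    rw [adjugate_add_self, add_comm (Bᵀ.adjugate), adjugate_add_self, trace_transpose,
      smul_one_mul, mul_smul_one] at e1
    rw [sub_smul, e1, sub_self]
  rcases smul_eq_zero.1 h3 with h4 | h4
  · exact sub_eq_zero.1 h4
  · exact absurd h4 hX

theorem aeval_quadratic {A : Matrix (Fin 2) (Fin 2) E} (hA : A.det = 1) {r : E} (hr : r ≠ 0)
    (ht : r + r⁻¹ = A.trace) : aeval A ((Polynomial.X - C r) * (Polynomial.X - C r⁻¹)) = 0 := by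
  rw [split_pair r hr, ht]
  have h := Matrix.aeval_self_charpoly A
  rwa [Matrix.charpoly_fin_two, hA, map_one] at h

theorem pow_map_eq {K : Type*} [Field K] (ι : E →+* K) {A : Matrix (Fin 2) (Fin 2) E} (hA : A.det = 1)
    {r : K} (hr : r ≠ 0) (hne : r ≠ r⁻¹) (ht : r + r⁻¹ = ι A.trace) {N : ℕ}
    (hN : r ^ N = 1 ∨ r ^ N = -1) : A ^ N = 1 ∨ A ^ N = -1 := by
  have hdet : (A.map ι).det = 1 := by
    rw [← RingHom.mapMatrix_apply, ← RingHom.map_det, hA, map_one]
  have hq := aeval_quadratic hdet hr (by rw [ht, Matrix.trace_fin_two, Matrix.trace_fin_two]; simp)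
  have hinj : Function.Injective (fun M : Matrix (Fin 2) (Fin 2) E => M.map ι) :=
    Matrix.map_injective ι.injective
  rcases hN with h | h
  · left
    refine hinj ?_
    have := pow_eq_of_dvd hq (dvd_two hne h (by rw [inv_pow, h, inv_one]))
    rw [map_one, ← Matrix.map_pow] at this
    simpa using this
  · right
    refine hinj ?_
    have := pow_eq_of_dvd hq (dvd_two hne h (by rw [inv_pow, h, inv_neg, inv_one]))
    rw [map_neg, map_one, ← Matrix.map_pow] at this
    simpa [Matrix.map_neg] using this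

theorem root_pow_cases {K : Type*} [Field K] (p : ℕ) [Fact p.Prime] [CharP K p] {m e : ℕ}
    (hm : m = p ^ e) {r : K} (hr : r ≠ 0) (ht : (r + r⁻¹) ^ m = r + r⁻¹) :
    r ^ (m - 1) = 1 ∨ r ^ (m + 1) = 1 := by
  refine (pow_eq_self_or_inv hr (hm ▸ pow_pos (Fact.out : p.Prime).pos e)).2 ?_
  have hx : r ^ m ≠ 0 := pow_ne_zero _ hr
  rw [hm, add_pow_char_pow, inv_pow, ← hm] at ht
  generalize r ^ m = x at ht hx ⊢
  have h2 : (x - r) * (x - r⁻¹) = 0 := by
    have e1 : x * x⁻¹ = 1 := mul_inv_cancel₀ hx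
    have e2 : r * r⁻¹ = 1 := mul_inv_cancel₀ hr
    linear_combination x * ht - e1 + e2
  rcases mul_eq_zero.1 h2 with h | h
  · exact Or.inl (sub_eq_zero.1 h)
  · exact Or.inr (sub_eq_zero.1 h)

/-- Halved exponent. -/
def IsExp (p m N : ℕ) : Prop :=
  (p = 2 ∧ (N = m - 1 ∨ N = m + 1)) ∨ (p ≠ 2 ∧ (2 * N = m - 1 ∨ 2 * N = m + 1))

theorem exists_exp {K : Type*} [Field K] (p : ℕ) [Fact p.Prime] {m e : ℕ}
    (hm : m = p ^ e) {r : K} (h : r ^ (m - 1) = 1 ∨ r ^ (m + 1) = 1) :
    ∃ N, IsExp p m N ∧ (r ^ N = 1 ∨ r ^ N = -1) := by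
  by_cases h2 : p = 2
  · rcases h with h | h
    · exact ⟨m - 1, Or.inl ⟨h2, Or.inl rfl⟩, Or.inl h⟩
    · exact ⟨m + 1, Or.inl ⟨h2, Or.inr rfl⟩, Or.inl h⟩
  · have ho : Odd m := hm ▸ ((Fact.out : p.Prime).odd_of_ne_two h2).pow
    obtain ⟨a, ha⟩ := ho
    rcases h with h | h
    · refine ⟨a, Or.inr ⟨h2, Or.inl (by omega)⟩, sq_eq_one_iff.1 ?_⟩
      rw [← pow_mul, show a * 2 = m - 1 by omega, h]
    · refine ⟨a + 1, Or.inr ⟨h2, Or.inr (by omega)⟩, sq_eq_one_iff.1 ?_⟩
      rw [← pow_mul, show (a + 1) * 2 = m + 1 by omega, h]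

/-- A semisimple element with trace fixed by the `m`-th power map. -/
theorem sl2_pow (p : ℕ) [Fact p.Prime] [CharP E p] {m e : ℕ} (hm : m = p ^ e)
    {A : Matrix (Fin 2) (Fin 2) E} (hA : A.det = 1) (ht : A.trace ^ m = A.trace)
    (h4 : A.trace ^ 2 ≠ 4) : ∃ N, IsExp p m N ∧ (A ^ N = 1 ∨ A ^ N = -1) := by
  let ι := algebraMap E (AlgebraicClosure E)
  haveI : CharP (AlgebraicClosure E) p := (RingHom.charP_iff ι ι.injective p).1 inferInstance
  obtain ⟨r, hr, hrt⟩ := exists_trace_root (ι A.trace)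
  obtain ⟨N, hN, hrN⟩ := exists_exp p hm (root_pow_cases p hm hr (by rw [hrt, ← map_pow, ht]))
  refine ⟨N, hN, pow_map_eq ι hA hr (fun h => h4 (ι.injective ?_)) hrt hrN⟩
  have h1 : r * r = 1 := by nth_rw 2 [h]; exact mul_inv_cancel₀ hr
  rw [map_pow, ← hrt, ← h, map_ofNat]
  linear_combination 4 * h1

/-- An element with trace `±2` is a sign times a unipotent element. -/
theorem sl2_unipotent (p : ℕ) [Fact p.Prime] [CharP E p] {A : Matrix (Fin 2) (Fin 2) E}
    (hA : A.det = 1) (h4 : A.trace ^ 2 = 4) :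
    ∃ ε : E, ε * ε = 1 ∧ (A - ε • 1) * (A - ε • 1) = 0 ∧ (A ^ p = 1 ∨ A ^ p = -1) := by
  obtain ⟨ε, hε, ht⟩ : ∃ ε : E, ε * ε = 1 ∧ A.trace = 2 * ε := by
    by_cases h2 : (2 : E) = 0
    · refine ⟨1, one_mul 1, ?_⟩
      have h40 : A.trace ^ 2 = 0 := by
        rw [h4, show (4 : E) = 2 * 2 by norm_num, h2, zero_mul]
      rw [mul_one, h2]
      exact eq_zero_of_pow_eq_zero h40
    · refine ⟨A.trace / 2, ?_, by field_simp⟩
      field_simp
      linear_combination h4
  have hr : ε ≠ 0 := left_ne_zero_of_mul_eq_one hε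
  have hinv : ε⁻¹ = ε := inv_eq_of_mul_eq_one_right hε
  have h0 := aeval_quadratic hA hr (by rw [hinv, ht]; ring)
  rw [hinv] at h0
  refine ⟨ε, hε, ?_, ?_⟩
  · simpa [Algebra.algebraMap_eq_smul_one] using h0
  · have h1 := pow_eq_of_dvd h0 (c := ε ^ p) (N := p * 1) (by
      rw [← sq]; exact sq_dvd_step p (pow_one ε))
    rw [mul_one] at h1
    rcases sq_eq_one_iff.1 (show (ε ^ p) ^ 2 = 1 by rw [← pow_mul, Nat.mul_comm, pow_mul, sq, hε, one_pow])
      with h | h
    · left; rw [h1, h, map_one]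
    · right; rw [h1, h, map_neg, map_one]

end SLTwo

end Cfsg.Agent.Lead.SpFourSpectrum
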