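import Cfsg.Agent.Lib.Lead.SpFourSpectrum.Upper
import Cfsg.Agent.Lib.Small.SymplecticElems

/-!
Elements of `PSp₄(q)` realising all the bounds.
-/

set_option autoImplicit false
set_option linter.unusedSimpArgs false

open Matrix Polynomial

namespace Cfsg.Agent.Lead.SpFourSpectrum

theorem exists_orderOf_of_dvd {G : Type*} [Group G] [Finite G] {n : ℕ} (x : G)
    (h : ∀ k, x ^ k = 1 → n ∣ k) : ∃ y : G, orderOf y = n :=
  ⟨x ^ (orderOf x / n), orderOf_pow_orderOf_div (orderOf_pos x).ne' (h _ (pow_orderOf_eq_one x))⟩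

theorem exists_root_of_order (K : Type*) [Field K] [IsAlgClosed K] (p : ℕ) [Fact p.Prime]
    [CharP K p] {N : ℕ} (hN : ¬ p ∣ N) : ∃ r : K, r ≠ 0 ∧ orderOf r = N := by
  haveI : NeZero (N : K) := ⟨fun h => hN ((CharP.cast_eq_zero_iff K p N).1 h)⟩
  haveI : NeZero N := ⟨fun h => hN (h ▸ dvd_zero p)⟩
  obtain ⟨r, hr⟩ := HasEnoughRootsOfUnity.exists_primitiveRoot K N
  exact ⟨r, hr.ne_zero (NeZero.ne N), hr.eq_orderOf.symm⟩

variable {F : Type*} [Field F] [Fintype F]

theorem pow_scalar (g : Matrix.symplecticGroup (Fin 2) F) {k : ℕ}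
    (hk : (g : Cfsg.PSp 2 F) ^ k = 1) : ∃ c : F, c * c = 1 ∧ g.1 ^ k = c • 1 := by
  rw [← QuotientGroup.mk_pow] at hk
  obtain ⟨c, hc, he⟩ := Small.sp_center_smul 2 _ ((QuotientGroup.eq_one_iff _).1 hk)
  exact ⟨c, hc, by rw [← SubmonoidClass.coe_pow]; exact he⟩

theorem eigen_pow {K : Type*} [Field K] {n : Type*} [Fintype n] [DecidableEq n]
    {A : Matrix n n K} {v : n → K} {r : K} (h : A *ᵥ v = r • v) (k : ℕ) :
    (A ^ k) *ᵥ v = r ^ k • v := by
  induction k with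
  | zero => simp
  | succ k ih => rw [pow_succ, ← Matrix.mulVec_mulVec, h, Matrix.mulVec_smul, ih, smul_smul, pow_succ']

theorem eigen_scalar {K : Type*} [Field K] (ι : F →+* K) {n : Type*} [Fintype n] [DecidableEq n]
    {A : Matrix n n F} {v : n → K} {r : K} (hv : v ≠ 0) (h : A.map ι *ᵥ v = r • v) {k : ℕ} {c : F}
    (hk : A ^ k = c • 1) : r ^ k = ι c := by
  have h1 := eigen_pow h k
  rw [← Matrix.map_pow, hk] at h1
  have h2 : (c • (1 : Matrix n n F)).map ι = ι c • (1 : Matrix n n K) := by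
    ext i j
    by_cases hij : i = j <;> simp [hij, Matrix.one_apply]
  rw [h2, Matrix.smul_mulVec, Matrix.one_mulVec] at h1
  exact (smul_left_injective K hv h1).symm

/-- The companion-like symplectic matrix. -/
def compMat (σ d : F) : Matrix (Fin 2 ⊕ Fin 2) (Fin 2 ⊕ Fin 2) F :=
  fromBlocks !![0, -d; 1, σ] (-!![-σ, 1; 1, 0]) !![0, 1; 1, σ] 0

omit [Fintype F] in
theorem compMat_mem (σ d : F) : compMat σ d ∈ Matrix.symplecticGroup (Fin 2) F := by
  rw [compMat, SymplecticGroup.fromBlocks_mem_iff]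
  refine ⟨?_, ?_, ?_⟩ <;> ext i j <;> fin_cases i <;> fin_cases j <;>
    simp [Matrix.mul_apply, Fin.sum_univ_two] <;> ring

omit [Fintype F] in
theorem compMat_eigen {K : Type*} [Field K] (ι : F →+* K) {σ d : F} {r s : K} (hr : r ≠ 0)
    (hrs : r + r⁻¹ = s) (hs : s ^ 2 - ι σ * s + ι d = 0) :
    (compMat σ d).map ι *ᵥ Sum.elim ![s - ι σ, 1] ![r⁻¹, r⁻¹ * s] =
      r • Sum.elim ![s - ι σ, 1] ![r⁻¹, r⁻¹ * s] := by
  have h1 : r * r⁻¹ = 1 := mul_inv_cancel₀ hr
  funext i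
  rcases i with i | i <;> fin_cases i <;>
    simp [compMat, Matrix.mulVec, dotProduct, Fintype.sum_sum_type, Fin.sum_univ_two]
  · linear_combination (ι σ - s) * hrs - hs
  · linear_combination (-1 : K) * hrs
  · linear_combination -h1
  · linear_combination -s * h1

/-- Block element acting as a transvection on one plane and as a torus element on the other. -/
def mixMat (s : F) : Matrix (Fin 2 ⊕ Fin 2) (Fin 2 ⊕ Fin 2) F :=
  fromBlocks !![1, 0; 0, s] !![1, 0; 0, -1] !![0, 0; 0, 1] !![1, 0; 0, 0]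

omit [Fintype F] in
theorem mixMat_mem (s : F) : mixMat s ∈ Matrix.symplecticGroup (Fin 2) F := by
  rw [mixMat, SymplecticGroup.fromBlocks_mem_iff]
  refine ⟨?_, ?_, ?_⟩ <;> ext i j <;> fin_cases i <;> fin_cases j <;>
    simp [Matrix.mul_apply, Fin.sum_univ_two]

omit [Fintype F] in
theorem mixMat_eigen {K : Type*} [Field K] (ι : F →+* K) {s : F} {r : K} (hr : r ≠ 0)
    (hrs : r + r⁻¹ = ι s) :
    (mixMat s).map ι *ᵥ Sum.elim ![0, r] ![0, 1] = r • Sum.elim ![0, r] ![0, 1] := by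
  have h1 : r * r⁻¹ = 1 := mul_inv_cancel₀ hr
  funext i
  rcases i with i | i <;> fin_cases i <;>
    simp [mixMat, Matrix.mulVec, dotProduct, Fintype.sum_sum_type, Fin.sum_univ_two]
  linear_combination -r * hrs + h1

omit [Fintype F] in
theorem mixMat_pow (s : F) (k : ℕ) :
    (mixMat s ^ k) *ᵥ Sum.elim ![0, 0] ![1, 0] = Sum.elim ![(k : F), 0] ![1, 0] := by
  induction k with
  | zero => simp
  | succ k ih =>
    rw [pow_succ', ← Matrix.mulVec_mulVec, ih]
    funext i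
    rcases i with i | i <;> fin_cases i <;>
      simp [mixMat, Matrix.mulVec, dotProduct, Fintype.sum_sum_type, Fin.sum_univ_two]

theorem psp_order_large (p q f : ℕ) [Fact p.Prime] [CharP F p] (hq : q = p ^ f)
    (hF : Fintype.card F = q) {N : ℕ} (hN : N = q ^ 2 - 1 ∨ N = q ^ 2 + 1) :
    ∃ x : Cfsg.PSp 2 F, ∀ k, x ^ k = 1 → N ∣ 2 * k := by
  let ι := algebraMap F (AlgebraicClosure F)
  haveI : CharP (AlgebraicClosure F) p := (RingHom.charP_iff ι ι.injective p).1 inferInstance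
  have hf : 1 ≤ q := hq ▸ Nat.one_le_pow f p (Fact.out : p.Prime).pos
  have hf0 : f ≠ 0 := by
    intro h0
    rw [h0, pow_zero] at hq
    have := Fintype.one_lt_card (α := F)
    omega
  have hpq : p ∣ q ^ 2 := hq ▸ dvd_pow (dvd_pow_self p hf0) two_ne_zero
  have hpN : ¬ p ∣ N := by
    intro h
    have h1 : 1 ≤ q ^ 2 := Nat.one_le_pow _ _ hf
    rcases hN with rfl | rfl
    · have := Nat.dvd_sub hpq h
      rw [Nat.sub_sub_self h1] at this
      exact (Fact.out : p.Prime).not_dvd_one this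
    · have := Nat.dvd_sub h hpq
      rw [Nat.add_sub_cancel_left] at this
      exact (Fact.out : p.Prime).not_dvd_one this
  obtain ⟨r, hr, hord⟩ := exists_root_of_order (AlgebraicClosure F) p hpN
  obtain ⟨s, hs⟩ : ∃ s, r + r⁻¹ = s := ⟨_, rfl⟩
  have hrN : r ^ N = 1 := hord ▸ pow_orderOf_eq_one r
  have hrq : r ^ q ^ 2 = r ∨ r ^ q ^ 2 = r⁻¹ :=
    (pow_eq_self_or_inv hr (pow_pos (by omega) 2)).1 (by rcases hN with rfl | rfl <;> simp [hrN])
  have hsq : s ^ q ^ 2 = s := by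
    rw [← hs, hq, ← pow_mul, add_pow_char_pow, pow_mul, ← hq, inv_pow]
    rcases hrq with h | h <;> rw [h]
    rw [inv_inv, add_comm]
  have hfix : ∀ y : AlgebraicClosure F, y ^ q = y → ∃ c, ι c = y := fun y hy =>
    exists_of_pow_card ι (hF.symm ▸ hy)
  obtain ⟨σ, hσ⟩ := hfix (s + s ^ q) (by
    rw [hq, add_pow_char_pow, ← hq, ← pow_mul, ← sq, hsq, add_comm])
  obtain ⟨d, hd⟩ := hfix (s * s ^ q) (by rw [mul_pow, ← pow_mul, ← sq, hsq, mul_comm])
  refine ⟨((⟨compMat σ d, compMat_mem σ d⟩ : Matrix.symplecticGroup (Fin 2) F) : Cfsg.PSp 2 F),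
    fun k hk => ?_⟩
  obtain ⟨c, hc, he⟩ := pow_scalar _ hk
  have h := eigen_scalar ι (fun h => by simpa using congrFun h (Sum.inl 1))
    (compMat_eigen ι hr hs (by rw [hσ, hd]; ring)) he
  rw [← hord, orderOf_dvd_iff_pow_eq_one, Nat.mul_comm, pow_mul, h, sq, ← map_mul, hc, map_one]

theorem psp_order_mixed (p q f : ℕ) [Fact p.Prime] [CharP F p] (hq : q = p ^ f)
    (hF : Fintype.card F = q) {N : ℕ} (hN : N = q - 1 ∨ N = q + 1) :
    ∃ x : Cfsg.PSp 2 F, ∀ k, x ^ k = 1 → p * N ∣ k := by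
  let ι := algebraMap F (AlgebraicClosure F)
  haveI : CharP (AlgebraicClosure F) p := (RingHom.charP_iff ι ι.injective p).1 inferInstance
  have hf : 1 ≤ q := hq ▸ Nat.one_le_pow f p (Fact.out : p.Prime).pos
  have hf0 : f ≠ 0 := by
    intro h0
    rw [h0, pow_zero] at hq
    have := Fintype.one_lt_card (α := F)
    omega
  have hpq : p ∣ q := hq ▸ dvd_pow_self p hf0
  have hpN : ¬ p ∣ N := by
    intro h
    rcases hN with rfl | rfl
    · have := Nat.dvd_sub hpq h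
      rw [Nat.sub_sub_self hf] at this
      exact (Fact.out : p.Prime).not_dvd_one this
    · have := Nat.dvd_sub h hpq
      rw [Nat.add_sub_cancel_left] at this
      exact (Fact.out : p.Prime).not_dvd_one this
  obtain ⟨r, hr, hord⟩ := exists_root_of_order (AlgebraicClosure F) p hpN
  have hrN : r ^ N = 1 := hord ▸ pow_orderOf_eq_one r
  have hrq : r ^ q = r ∨ r ^ q = r⁻¹ :=
    (pow_eq_self_or_inv hr (by omega)).1 (by rcases hN with rfl | rfl <;> simp [hrN])
  obtain ⟨s, hs⟩ : ∃ s, ι s = r + r⁻¹ := exists_of_pow_card ι (by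
    rw [hF, hq, add_pow_char_pow, ← hq, inv_pow]
    rcases hrq with h | h <;> rw [h]
    rw [inv_inv, add_comm])
  refine ⟨((⟨mixMat s, mixMat_mem s⟩ : Matrix.symplecticGroup (Fin 2) F) : Cfsg.PSp 2 F),
    fun k hk => ?_⟩
  obtain ⟨c, hc, he⟩ := pow_scalar _ hk
  have h1 := mixMat_pow s k
  rw [he, Matrix.smul_mulVec, Matrix.one_mulVec] at h1
  have e1 : (k : F) = 0 := by simpa using (congrFun h1 (Sum.inl 0)).symm
  have e2 : c = 1 := by simpa using congrFun h1 (Sum.inr 0)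
  have h := eigen_scalar ι (fun h => by simpa using congrFun h (Sum.inr 1))
    (mixMat_eigen ι hr hs.symm) he
  refine ((Fact.out : p.Prime).coprime_iff_not_dvd.2 hpN).mul_dvd_of_dvd_of_dvd
    ((CharP.cast_eq_zero_iff F p k).1 e1) ?_
  rw [← hord, orderOf_dvd_iff_pow_eq_one, h, e2, map_one]

/-- A regular unipotent element in characteristic two. -/
def w4 : Matrix (Fin 2 ⊕ Fin 2) (Fin 2 ⊕ Fin 2) (ZMod 2) := compMat 0 0

theorem facts_four : w4 ^ 4 = 1 ∧ ∃ i j, i ≠ j ∧ (w4 ^ 2) i j ≠ 0 := by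
  refine ⟨?_, Sum.inl 1, Sum.inr 1, ?_, ?_⟩ <;> decide +kernel

theorem facts_nine : Classical.SpectrumPSpFour.w9 ^ 9 = -1 ∧
    ∃ i j, i ≠ j ∧ (Classical.SpectrumPSpFour.w9 ^ 3) i j ≠ 0 := by
  refine ⟨?_, Sum.inl 0, Sum.inl 1, ?_, ?_⟩ <;> decide +kernel

theorem psp_order_prime_sq (p : ℕ) [Fact p.Prime] [CharP F p]
    (w : Matrix (Fin 2 ⊕ Fin 2) (Fin 2 ⊕ Fin 2) (ZMod p)) (hw : w ∈ Matrix.symplecticGroup (Fin 2) (ZMod p))
    (h1 : w ^ (p ^ 2) = 1 ∨ w ^ (p ^ 2) = -1) (h2 : ∃ i j, i ≠ j ∧ (w ^ p) i j ≠ 0) :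
    ∃ x : Cfsg.PSp 2 F, orderOf x = p ^ 2 := by
  let f : ZMod p →+* F := ZMod.castHom (dvd_refl p) F
  have hmem : w.map f ∈ Matrix.symplecticGroup (Fin 2) F := by
    simpa using SymplecticGroup.map_mem hw f
  refine ⟨((⟨w.map f, hmem⟩ : Matrix.symplecticGroup (Fin 2) F) : Cfsg.PSp 2 F),
    orderOf_eq_prime_pow (p := p) (n := 1) (fun hk => ?_) ?_⟩
  · rw [pow_one] at hk
    obtain ⟨c, -, he⟩ := pow_scalar _ hk
    obtain ⟨i, j, hij, hne⟩ := h2
    have h := congrFun (congrFun he i) j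
    rw [Matrix.smul_apply, Matrix.one_apply_ne hij, smul_zero, ← Matrix.map_pow, Matrix.map_apply] at h
    exact hne (ZMod.castHom_injective F (by rw [map_zero]; exact h))
  · rw [← QuotientGroup.mk_pow]
    refine (QuotientGroup.eq_one_iff _).2 ?_
    rcases h1 with h | h
    · refine scalar_mem_center (c := 1) ?_
      rw [SubmonoidClass.coe_pow, ← Matrix.map_pow, h, map_one, Matrix.map_one f (map_zero f) (map_one f)]
    · refine scalar_mem_center (c := -1) ?_
      rw [SubmonoidClass.coe_pow, ← Matrix.map_pow, h, map_neg, map_one,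
        Matrix.map_neg _ (map_neg f), Matrix.map_one f (map_zero f) (map_one f)]

theorem psp_exists_order (p q f : ℕ) [Fact p.Prime] [CharP F p] (hq : q = p ^ f)
    (hF : Fintype.card F = q) {n : ℕ} (hn : Bound p q n) : ∃ x : Cfsg.PSp 2 F, orderOf x = n := by
  rcases hn with ⟨h2, hn⟩ | ⟨h2, hn⟩ | ⟨h3, rfl⟩ | rfl | rfl
  · subst h2
    have hodd : ∀ N, (N = q ^ 2 - 1 ∨ N = q ^ 2 + 1) → N.Coprime 2 := by
      intro N hN
      have : Even (q ^ 2) := by
        rw [hq, ← pow_mul]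
        refine Nat.even_pow.2 ⟨even_two, ?_⟩
        rintro h
        rcases Nat.mul_eq_zero.1 h with rfl | h'
        · have := Fintype.one_lt_card (α := F)
          simp [hq] at hF
          omega
        · omega
      obtain ⟨a, ha⟩ := this
      have h1 : 1 ≤ q ^ 2 := Nat.one_le_pow _ _ (hq ▸ pow_pos two_pos f)
      rw [Nat.coprime_comm, Nat.prime_two.coprime_iff_not_dvd]
      rintro ⟨b, hb⟩
      rcases hN with rfl | rfl <;> omega
    rcases hn with rfl | rfl | rfl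
    · obtain ⟨x, hx⟩ := psp_order_large 2 q f hq hF (Or.inr rfl)
      exact exists_orderOf_of_dvd x fun k hk => (hodd _ (Or.inr rfl)).dvd_of_dvd_mul_left (hx k hk)
    · obtain ⟨x, hx⟩ := psp_order_large 2 q f hq hF (Or.inl rfl)
      exact exists_orderOf_of_dvd x fun k hk => (hodd _ (Or.inl rfl)).dvd_of_dvd_mul_left (hx k hk)
    · exact psp_order_prime_sq 2 w4 (compMat_mem 0 0) (Or.inl facts_four.1) facts_four.2
  · obtain ⟨e1, e2, -, -⟩ := half_dvd (Fact.out : p.Prime) h2 hq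
    rcases hn with rfl | rfl
    · obtain ⟨x, hx⟩ := psp_order_large p q f hq hF (Or.inr rfl)
      exact exists_orderOf_of_dvd x fun k hk =>
        Nat.dvd_of_mul_dvd_mul_left two_pos (e2.symm ▸ hx k hk)
    · obtain ⟨x, hx⟩ := psp_order_large p q f hq hF (Or.inl rfl)
      exact exists_orderOf_of_dvd x fun k hk =>
        Nat.dvd_of_mul_dvd_mul_left two_pos (e1.symm ▸ hx k hk)
  · subst h3
    exact psp_order_prime_sq 3 Classical.SpectrumPSpFour.w9 (SymplecticGroup.mem_iff.2 (of_decide_eq_true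
      (Classical.SpectrumPSpFour.facts.1 _ (by simp)))) (Or.inr facts_nine.1) facts_nine.2
  · obtain ⟨x, hx⟩ := psp_order_mixed p q f hq hF (Or.inl rfl)
    exact exists_orderOf_of_dvd x hx
  · obtain ⟨x, hx⟩ := psp_order_mixed p q f hq hF (Or.inr rfl)
    exact exists_orderOf_of_dvd x hx

theorem psp_range (p q f : ℕ) [Fact p.Prime] [CharP F p] (hq : q = p ^ f)
    (hF : Fintype.card F = q) : Set.range (orderOf : Cfsg.PSp 2 F → ℕ) = good p q :=
  range_eq (psp_bound p q f hq hF) (fun _ hn => psp_exists_order p q f hq hF hn)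

end Cfsg.Agent.Lead.SpFourSpectrum
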