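import Cfsg.Agent.Lib.Lead.SpFourSpectrum.Semi
import Cfsg.Agent.Lib.Lead.SpFourSpectrum.SLTwo
import Cfsg.Agent.Lib.Lead.SpFourSpectrum.Witness

/-!
The orthogonal module of `SL₂(q²)` and the extensions realising the spectrum away from `3`.
-/

set_option autoImplicit false
set_option linter.unusedSimpArgs false

open Matrix Polynomial

namespace Cfsg.Agent.Lead.SpFourSpectrum

theorem exists_order_in {E : Type*} [Field E] [Fintype E] (p : ℕ) [Fact p.Prime] [CharP E p]
    {N : ℕ} (hpN : ¬ p ∣ N) (hN : N ∣ Fintype.card E - 1) : ∃ a : E, a ≠ 0 ∧ orderOf a = N := by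
  let ι := algebraMap E (AlgebraicClosure E)
  haveI : CharP (AlgebraicClosure E) p := (RingHom.charP_iff ι ι.injective p).1 inferInstance
  obtain ⟨r, hr, hord⟩ := exists_root_of_order (AlgebraicClosure E) p hpN
  obtain ⟨a, ha⟩ := exists_of_pow_card ι (x := r) (by
    obtain ⟨d, hd⟩ := hN
    have h1 : 1 < Fintype.card E := Fintype.one_lt_card
    rw [show Fintype.card E = N * d + 1 by omega, pow_succ, pow_mul, ← hord, pow_orderOf_eq_one,
      one_pow, one_mul])
  refine ⟨a, fun h => hr (by rw [← ha, h, map_zero]), ?_⟩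
  rw [← hord, ← ha]
  exact (orderOf_injective ι.toMonoidHom ι.injective a).symm

/-- The matrix of an element of `SL₂`. -/
def slVal {E : Type*} [Field E] : Matrix.SpecialLinearGroup (Fin 2) E →* Matrix (Fin 2) (Fin 2) E where
  toFun g := g.1
  map_one' := rfl
  map_mul' _ _ := rfl

/-- Companion matrix of a given trace. -/
def compSL {E : Type*} [Field E] (s : E) : Matrix.SpecialLinearGroup (Fin 2) E :=
  ⟨!![s, -1; 1, 0], by simp [Matrix.det_fin_two]⟩

theorem exists_large {E : Type*} [Field E] [Fintype E] (p q f : ℕ) [Fact p.Prime] [CharP E p]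
    (hq : q = p ^ f) (hE : Fintype.card E = q ^ 2) {N : ℕ} (hN : N = q ^ 2 - 1 ∨ N = q ^ 2 + 1) :
    ∃ g : Matrix.SpecialLinearGroup (Fin 2) E,
      ∀ k, ((g ^ k).1 = 1 ∨ (g ^ k).1 = -1) → N ∣ 2 * k := by
  let ι := algebraMap E (AlgebraicClosure E)
  haveI : CharP (AlgebraicClosure E) p := (RingHom.charP_iff ι ι.injective p).1 inferInstance
  have h1 : 1 < q ^ 2 := hE ▸ Fintype.one_lt_card
  have hf0 : f ≠ 0 := by
    intro h0
    rw [h0, pow_zero] at hq
    rw [hq] at h1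
    simp at h1
  have hpq : p ∣ q ^ 2 := hq ▸ dvd_pow (dvd_pow_self p hf0) two_ne_zero
  have hpN : ¬ p ∣ N := by
    intro h
    rcases hN with rfl | rfl
    · have := Nat.dvd_sub hpq h
      rw [Nat.sub_sub_self h1.le] at this
      exact (Fact.out : p.Prime).not_dvd_one this
    · have := Nat.dvd_sub h hpq
      rw [Nat.add_sub_cancel_left] at this
      exact (Fact.out : p.Prime).not_dvd_one this
  obtain ⟨r, hr, hord⟩ := exists_root_of_order (AlgebraicClosure E) p hpN
  have hrN : r ^ N = 1 := hord ▸ pow_orderOf_eq_one r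
  have hrq : r ^ q ^ 2 = r ∨ r ^ q ^ 2 = r⁻¹ :=
    (pow_eq_self_or_inv hr (by omega)).1 (by rcases hN with rfl | rfl <;> simp [hrN])
  obtain ⟨s, hs⟩ : ∃ s, ι s = r + r⁻¹ := exists_of_pow_card ι (by
    rw [hE, hq, ← pow_mul, add_pow_char_pow, pow_mul, ← hq, inv_pow]
    rcases hrq with h | h <;> rw [h]
    rw [inv_inv, add_comm])
  refine ⟨compSL s, fun k hk => ?_⟩
  have heig : (compSL s).1.map ι *ᵥ ![r, 1] = r • ![r, 1] := by
    funext i
    fin_cases i <;> simp [compSL, Matrix.mulVec, dotProduct, Fin.sum_univ_two]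
    linear_combination r * hs + mul_inv_cancel₀ hr
  obtain ⟨c, hc, he⟩ : ∃ c : E, c * c = 1 ∧ (compSL s).1 ^ k = c • 1 := by
    rw [Matrix.SpecialLinearGroup.coe_pow] at hk
    rcases hk with h | h
    · exact ⟨1, one_mul 1, by rw [h, one_smul]⟩
    · exact ⟨-1, by ring, by rw [h, neg_one_smul]⟩
  have h := eigen_scalar ι (fun h => by simpa using congrFun h 1) heig he
  rw [← hord, orderOf_dvd_iff_pow_eq_one, Nat.mul_comm, pow_mul, h, sq, ← map_mul, hc, map_one]

theorem geom_sum_char {k A : Type*} [Field k] [Ring A] [Algebra k A] (p : ℕ) [Fact p.Prime]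
    [CharP k p] (L : A) : ∑ i ∈ Finset.range p, L ^ i = (L - 1) ^ (p - 1) := by
  have h : (∑ i ∈ Finset.range p, (Polynomial.X : k[X]) ^ i) = (Polynomial.X - 1) ^ (p - 1) := by
    have h0 : (Polynomial.X - 1 : k[X]) ≠ 0 := by
      simpa using Polynomial.X_sub_C_ne_zero (1 : k)
    refine mul_left_cancel₀ h0 ?_
    rw [mul_geom_sum, ← pow_succ', Nat.sub_add_cancel (Fact.out : p.Prime).one_le, sub_pow_char,
      one_pow]
  have := congrArg (aeval L) h
  simpa [map_sum] using this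

theorem geom_sum_two {A : Type*} [Ring A] (L : A) (p : ℕ) :
    ∑ i ∈ Finset.range (2 * p), L ^ i = (1 + L) * ∑ i ∈ Finset.range p, (L ^ 2) ^ i := by
  induction p with
  | zero => simp
  | succ p ih =>
    rw [show 2 * (p + 1) = 2 * p + 1 + 1 by ring, Finset.sum_range_succ, Finset.sum_range_succ,
      Finset.sum_range_succ, ih, mul_add, ← pow_mul, add_mul, add_mul, one_mul, one_mul,
      ← pow_succ']
    abel

theorem cube_eq_zero {A : Type*} [Ring A] {a b : A} (hab : Commute a b) (ha : a * a = 0)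
    (hb : b * b = 0) : (a + b + a * b) ^ 3 = 0 := by
  have hd : a + b + a * b = a + (1 + a) * b := by noncomm_ring
  rw [hd]
  obtain ⟨d, hd'⟩ : ∃ d, d = (1 + a) * b := ⟨_, rfl⟩
  have hc : Commute a d := hd' ▸ ((Commute.one_right a).add_right (Commute.refl a)).mul_right hab
  have hdd : d * d = 0 := by
    rw [hd', mul_assoc, ← mul_assoc b, ((Commute.one_left b).add_left hab).symm.eq, mul_assoc, hb,
      mul_zero, mul_zero]
  rw [← hd']
  calc (a + d) ^ 3 = a * a * a + (a * a) * d + a * (d * a) + a * (d * d) + d * (a * a) + (d * a) * d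
        + (d * d) * a + d * d * d := by noncomm_ring
    _ = 0 := by simp [ha, hdd, ← hc.eq, ← mul_assoc, mul_assoc a d d]

section

variable {E : Type} [Field E] [Fintype E] (p f : ℕ) [Fact p.Prime] [CharP E p]

local notation "SL" => Matrix.SpecialLinearGroup (Fin 2) E
local notation "M2" => Matrix (Fin 2) (Fin 2) E

/-- The twisted representation. -/
def twist : SL →* SL := Matrix.SpecialLinearGroup.map (iterateFrobenius E p f)

theorem twist_val (g : SL) : (twist p f g).1 = g.1.map (iterateFrobenius E p f) := rfl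

/-- The action `X ↦ g X ḡᵀ`. -/
noncomputable def rho : SL →* (Module.End E M2)ˣ := biHom slVal (slVal.comp (twist p f))

theorem rho_apply (g : SL) (X : M2) :
    ((rho p f g : (Module.End E M2)ˣ) : Module.End E M2) X = g.1 * X * (twist p f g).1ᵀ :=
  biHom_apply _ _ g X

theorem rho_eq_one {g : SL} (h : g.1 = 1 ∨ g.1 = -1) : rho p f g = 1 := by
  refine Units.ext (LinearMap.ext fun X => ?_)
  rw [rho_apply, twist_val]
  rcases h with h | h <;> rw [h] <;> simp [Matrix.map_neg]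

theorem rho_pow_eq_one {g : SL} {N : ℕ} (h : g.1 ^ N = 1 ∨ g.1 ^ N = -1) : rho p f g ^ N = 1 := by
  rw [← map_pow]
  exact rho_eq_one p f (by rwa [Matrix.SpecialLinearGroup.coe_pow])

theorem of_rho_eq_one {g : SL} (h : rho p f g = 1) : g.1 = 1 ∨ g.1 = -1 := by
  obtain ⟨c, hc⟩ := scalar_of_bi_eq_one (A := g.1) (B := (twist p f g).1) (B' := (twist p f g⁻¹).1)
    (by rw [← Matrix.SpecialLinearGroup.coe_mul, ← map_mul, mul_inv_cancel, map_one]; rfl)
    (fun X => by rw [← rho_apply, h]; rfl)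
  have hdet := g.2
  rw [hc, Matrix.det_smul, Matrix.det_one, mul_one, Fintype.card_fin, sq_eq_one_iff] at hdet
  rcases hdet with e | e
  · left; rw [hc, e, one_smul]
  · right; rw [hc, e, neg_one_smul]

/-- Transposition as a unit. -/
def tau : (Module.End E M2)ˣ where
  val := (Matrix.transposeLinearEquiv (Fin 2) (Fin 2) E E).toLinearMap
  inv := (Matrix.transposeLinearEquiv (Fin 2) (Fin 2) E E).toLinearMap
  val_inv := LinearMap.ext fun X => Matrix.transpose_transpose X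
  inv_val := LinearMap.ext fun X => Matrix.transpose_transpose X

theorem tau_apply (X : M2) : ((tau : (Module.End E M2)ˣ) : Module.End E M2) X = Xᵀ := rfl

theorem tau_mul_tau : (tau : (Module.End E M2)ˣ) * tau = 1 :=
  Units.ext (LinearMap.ext fun X => Matrix.transpose_transpose X)

theorem tau_ne_rho (g : SL) : (tau : (Module.End E M2)ˣ) ≠ rho p f g := by
  intro h
  have h' : ∀ X, g.1 * X * (twist p f g).1ᵀ = Xᵀ := fun X => by rw [← rho_apply, ← h, tau_apply]
  have h1 : g.1 * (twist p f g).1ᵀ = 1 := by simpa using h' 1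
  have h2 : (twist p f g).1ᵀ * g.1 = 1 := mul_eq_one_comm.1 h1
  obtain ⟨X, hX⟩ : ∃ X, X = Matrix.single (0 : Fin 2) (1 : Fin 2) (1 : E) := ⟨_, rfl⟩
  obtain ⟨Y, hY⟩ : ∃ Y, Y = Matrix.single (1 : Fin 2) (0 : Fin 2) (1 : E) := ⟨_, rfl⟩
  have h3 : (X * Y)ᵀ = Xᵀ * Yᵀ := by
    rw [← h' X, ← h' Y, ← h' (X * Y)]
    simp only [mul_assoc]
    rw [← mul_assoc (twist p f g).1ᵀ g.1, h2, one_mul]
  have h4 := congrFun (congrFun h3 0) 0
  rw [hX, hY] at h4
  simp [Matrix.mul_apply, Fin.sum_univ_two, Matrix.single] at h4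

variable {q : ℕ} (hq : q = p ^ f) (hE : Fintype.card E = q ^ 2)

include hq in
theorem frob_apply (x : E) : iterateFrobenius E p f x = x ^ q := by rw [iterateFrobenius_def, hq]

include hq hE in
theorem frob_frob (x : E) : iterateFrobenius E p f (iterateFrobenius E p f x) = x := by
  rw [frob_apply p f hq, frob_apply p f hq, ← pow_mul, ← sq, ← hE, FiniteField.pow_card]

include hq hE in
theorem twist_twist (g : SL) : twist p f (twist p f g) = g := by
  apply Subtype.ext
  ext i j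
  exact frob_frob p f hq hE _

include hq hE in
theorem tau_conj (g : SL) : tau * rho p f g = rho p f (twist p f g) * tau := by
  refine Units.ext (LinearMap.ext fun X => ?_)
  simp only [Units.val_mul, Module.End.mul_apply, rho_apply, tau_apply, twist_twist p f hq hE,
    transpose_mul, transpose_transpose, mul_assoc]

/-- The extended group of maps. -/
noncomputable def outerGroup : Subgroup (Module.End E M2)ˣ where
  carrier := {x | ∃ g : SL, x = rho p f g ∨ x = rho p f g * tau}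
  one_mem' := ⟨1, Or.inl (map_one _).symm⟩
  mul_mem' := by
    rintro _ _ ⟨g, hg⟩ ⟨h, hh⟩
    rcases hg with rfl | rfl <;> rcases hh with rfl | rfl
    · exact ⟨g * h, Or.inl (map_mul _ _ _).symm⟩
    · exact ⟨g * h, Or.inr (by rw [map_mul, mul_assoc])⟩
    · exact ⟨g * twist p f h, Or.inr (by rw [map_mul, mul_assoc, tau_conj p f hq hE, mul_assoc])⟩
    · refine ⟨g * twist p f h, Or.inl ?_⟩
      rw [map_mul, mul_assoc, ← mul_assoc tau, tau_conj p f hq hE, mul_assoc, tau_mul_tau, mul_one]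
  inv_mem' := by
    rintro _ ⟨g, rfl | rfl⟩
    · exact ⟨g⁻¹, Or.inl (map_inv _ _).symm⟩
    · refine ⟨twist p f g⁻¹, Or.inr ?_⟩
      rw [_root_.mul_inv_rev, ← map_inv, inv_eq_of_mul_eq_one_left tau_mul_tau, tau_conj p f hq hE]

include hq hE in
theorem exp_bound {N : ℕ} (hN : IsExp p (q ^ 2) N) : Bound p q N := by
  rcases hN with ⟨h2, h | h⟩ | ⟨h2, h | h⟩
  · exact Or.inl ⟨h2, Or.inr (Or.inl h)⟩
  · exact Or.inl ⟨h2, Or.inl h⟩
  · exact Or.inr (Or.inl ⟨h2, Or.inr (by omega)⟩)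
  · exact Or.inr (Or.inl ⟨h2, Or.inl (by omega)⟩)

theorem exp_small {m N : ℕ} (hN : IsExp p m N) : N ∣ m - 1 ∨ N ∣ m + 1 := by
  rcases hN with ⟨-, h | h⟩ | ⟨-, h | h⟩
  · exact Or.inl (h ▸ dvd_rfl)
  · exact Or.inr (h ▸ dvd_rfl)
  · exact Or.inl (h ▸ dvd_mul_left N 2)
  · exact Or.inr (h ▸ dvd_mul_left N 2)

theorem sum_range_unipotent {γ : Module.End E M2} {g : SL} (hγ : γ = (rho p f g).1) (h5 : 5 ≤ p)
    {ε : E} (hε : ε * ε = 1) (hu : (g.1 - ε • 1) * (g.1 - ε • 1) = 0) :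
    ∑ i ∈ Finset.range p, γ ^ i = 0 := by
  rw [geom_sum_char (k := E) p γ]
  refine pow_eq_zero_of_le (show 3 ≤ p - 1 by omega) ?_
  obtain ⟨φ, hφ⟩ : ∃ φ, φ = iterateFrobenius E p f := ⟨_, rfl⟩
  obtain ⟨u, hu'⟩ : ∃ u, u = g.1 - ε • 1 := ⟨_, rfl⟩
  have hg : g.1 = ε • 1 + u := by rw [hu']; abel
  have hφε : φ ε = ε := by
    rcases mul_self_eq_one_iff.1 hε with h | h <;> simp [h]
  have htw : (twist p f g).1 = ε • 1 + u.map φ := by
    rw [twist_val, ← hφ, hg]
    ext i j
    by_cases hij : i = j <;> simp [hij, hφε, Matrix.one_apply]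
  rw [← hu'] at hu
  have hw : u.map φ * u.map φ = 0 := by
    rw [← Matrix.map_mul, hu, Matrix.map_zero _ (map_zero φ)]
  obtain ⟨a, ha⟩ : ∃ a : Module.End E M2, a = bi (ε • u) 1 := ⟨_, rfl⟩
  obtain ⟨b, hb⟩ : ∃ b : Module.End E M2, b = bi 1 (ε • u.map φ) := ⟨_, rfl⟩
  have hc : Commute a b := by
    rw [Commute, SemiconjBy, ha, hb, ← bi_mul, ← bi_mul, one_mul, mul_one, one_mul, mul_one]
  have hbi0 : ∀ B : M2, bi (0 : M2) B = 0 ∧ bi B (0 : M2) = 0 := fun B =>
    ⟨LinearMap.ext fun X => by simp [bi_apply], LinearMap.ext fun X => by simp [bi_apply]⟩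
  have haa : a * a = 0 := by
    rw [ha, ← bi_mul, smul_mul_smul_comm, hu, smul_zero, (hbi0 _).1]
  have hbb : b * b = 0 := by
    rw [hb, ← bi_mul, smul_mul_smul_comm, hw, smul_zero, (hbi0 _).2]
  have heq : γ - 1 = a + b + a * b := by
    refine LinearMap.ext fun X => ?_
    rw [hγ, ha, hb, ← bi_mul, LinearMap.sub_apply, LinearMap.add_apply, LinearMap.add_apply,
      rho_apply, htw, hg]
    simp only [bi_apply, Module.End.one_apply, mul_one, one_mul, transpose_one, transpose_smul,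
      transpose_add, add_mul, mul_add, smul_mul_assoc, mul_smul_comm, smul_smul, smul_add, hε,
      one_smul]
    abel
  rw [heq]
  exact cube_eq_zero hc haa hbb

include hq hE in
theorem inner_upper (hp3 : p ≠ 3) {Γ : Subgroup (Module.End E M2)ˣ} (v : M2) (γ : ↥Γ) (g : SL)
    (hγ : γ.1 = rho p f g) : ∃ n, Bound p q n ∧ mk v γ ^ n = 1 := by
  have hpow : ∀ N, (g.1 ^ N = 1 ∨ g.1 ^ N = -1) → γ ^ N = 1 := fun N h =>
    Subtype.ext (by rw [SubmonoidClass.coe_pow, hγ, rho_pow_eq_one p f h]; rfl)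
  by_cases h4 : g.1.trace ^ 2 = 4
  · obtain ⟨ε, hε, hu, hp⟩ := sl2_unipotent p g.2 h4
    have h1 := hpow p hp
    by_cases h2 : p = 2
    · subst h2
      exact ⟨4, Or.inl ⟨rfl, Or.inr (Or.inr rfl)⟩, pow_mul_eq_one 2 v h1⟩
    · have h5 : 5 ≤ p := by
        have := (Fact.out : p.Prime).two_le
        have h4' : p ≠ 4 := fun h => absurd (h ▸ (Fact.out : p.Prime)) (by decide)
        omega
      refine ⟨_, Or.inr (Or.inr (Or.inr (Or.inl rfl))), ?_⟩
      rw [pow_mul, pow_eq_one_of_sum v h1 ?_, one_pow]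
      rw [sum_range_unipotent p f (congrArg Units.val hγ) h5 hε hu]
      rfl
  · obtain ⟨N, hN, hgN⟩ := sl2_pow p (m := q ^ 2) (e := 2 * f) (by rw [hq, ← pow_mul, Nat.mul_comm])
      g.2 (by rw [← hE, FiniteField.pow_card]) h4
    rcases pow_eq_one_or_fixed v (hpow N hgN) with h | ⟨w, hw, hfix⟩
    · exact ⟨N, exp_bound p f hq hE hN, h⟩
    · rw [hγ, rho_apply] at hfix
      have ht : g.1.trace ^ q = g.1.trace := by
        conv_rhs => rw [trace_eq_of_fixed g.2 (twist p f g).2 hw hfix]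
        rw [← frob_apply p f hq, twist_val, Matrix.trace_fin_two, Matrix.trace_fin_two]
        simp
      obtain ⟨M, hM, hgM⟩ := sl2_pow p hq g.2 ht h4
      rcases exp_small p hM with ⟨c, hc⟩ | ⟨c, hc⟩
      · refine ⟨_, Or.inr (Or.inr (Or.inr (Or.inl rfl))), pow_mul_eq_one p v ?_⟩
        rw [hc, pow_mul, hpow M hgM, one_pow]
      · refine ⟨_, Or.inr (Or.inr (Or.inr (Or.inr rfl))), pow_mul_eq_one p v ?_⟩
        rw [hc, pow_mul, hpow M hgM, one_pow]

include hq hE in
theorem outer_sq {g : SL} {x : (Module.End E M2)ˣ} (hx : x = rho p f g * tau) :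
    x ^ 2 = rho p f (g * twist p f g) := by
  rw [sq, hx, mul_assoc, ← mul_assoc tau, tau_conj p f hq hE, mul_assoc, tau_mul_tau, mul_one,
    map_mul]

include hq hE in
theorem outer_upper (h5 : 5 ≤ p) {Γ : Subgroup (Module.End E M2)ˣ} (v : M2) (γ : ↥Γ) (g : SL)
    (hγ : γ.1 = rho p f g * tau) : ∃ n, Bound p q n ∧ mk v γ ^ n = 1 := by
  obtain ⟨h, hh⟩ : ∃ h, h = g * twist p f g := ⟨_, rfl⟩
  have hsq : (γ ^ 2).1 = rho p f h := by rw [SubmonoidClass.coe_pow, outer_sq p f hq hE hγ, hh]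
  have ht : h.1.trace ^ q = h.1.trace := by
    have h1 : iterateFrobenius E p f h.1.trace = (twist p f h).1.trace := by
      rw [twist_val, Matrix.trace_fin_two, Matrix.trace_fin_two]; simp
    rw [← frob_apply p f hq, h1, hh, map_mul, twist_twist p f hq hE,
      Matrix.SpecialLinearGroup.coe_mul, Matrix.SpecialLinearGroup.coe_mul, Matrix.trace_mul_comm]
  have hpow : ∀ N, (h.1 ^ N = 1 ∨ h.1 ^ N = -1) → γ ^ (2 * N) = 1 := fun N hN => by
    rw [pow_mul]
    exact Subtype.ext (by rw [SubmonoidClass.coe_pow, hsq, rho_pow_eq_one p f hN]; rfl)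
  by_cases h4 : h.1.trace ^ 2 = 4
  · obtain ⟨ε, hε, hu, hp⟩ := sl2_unipotent p h.2 h4
    refine ⟨_, Or.inr (Or.inr (Or.inr (Or.inr rfl))), ?_⟩
    have hodd : Odd q := hq ▸ ((Fact.out : p.Prime).odd_of_ne_two (by omega)).pow
    obtain ⟨c, hc⟩ := hodd
    rw [show p * (q + 1) = 2 * p * (c + 1) by rw [hc]; ring, pow_mul,
      pow_eq_one_of_sum v (hpow p hp) ?_, one_pow]
    rw [geom_sum_two]
    have hz := sum_range_unipotent p f (γ := (γ.1.1) ^ 2) (g := h) (by
      rw [← hsq]; rfl) h5 hε hu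
    rw [hz, mul_zero]
    rfl
  · obtain ⟨N, hN, hhN⟩ := sl2_pow p hq h.2 ht h4
    rcases hN with ⟨h2, -⟩ | ⟨-, hN | hN⟩
    · omega
    · exact ⟨_, Or.inr (Or.inr (Or.inr (Or.inl rfl))), pow_mul_eq_one p v (hN ▸ hpow N hhN)⟩
    · exact ⟨_, Or.inr (Or.inr (Or.inr (Or.inr rfl))), pow_mul_eq_one p v (hN ▸ hpow N hhN)⟩

end

end Cfsg.Agent.Lead.SpFourSpectrum
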