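import Cfsg.Agent.Lib.Lead.SpFourSpectrum.ModTwo

/-!
Elements realising the bounds in the extensions, away from characteristic three.
-/

set_option autoImplicit false
set_option linter.unusedSimpArgs false

open Matrix Polynomial

namespace Cfsg.Agent.Lead.SpFourSpectrum

variable {E : Type} [Field E] [Fintype E] (p f : ℕ) [Fact p.Prime] [CharP E p]

local notation "SL" => Matrix.SpecialLinearGroup (Fin 2) E
local notation "M2" => Matrix (Fin 2) (Fin 2) E

theorem eigen_sign {g : SL} {k : ℕ} (h : g.1 ^ k = 1 ∨ g.1 ^ k = -1) {v : Fin 2 → E} {r : E}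
    (hv : v ≠ 0) (he : g.1 *ᵥ v = r • v) : r ^ (2 * k) = 1 := by
  obtain ⟨c, hc, hc'⟩ : ∃ c : E, c * c = 1 ∧ g.1 ^ k = c • 1 := by
    rcases h with h | h
    · exact ⟨1, one_mul 1, by rw [h, one_smul]⟩
    · exact ⟨-1, by ring, by rw [h, neg_one_smul]⟩
  have h1 := eigen_scalar (RingHom.id E) (A := g.1) hv (by simpa using he) hc'
  rw [Nat.mul_comm, pow_mul, h1, sq, RingHom.id_apply, hc]

theorem dvd_of_rho_pow {g : SL} {k : ℕ} (h : rho p f g ^ k = 1) :
    g.1 ^ k = 1 ∨ g.1 ^ k = -1 := by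
  rw [← map_pow] at h
  simpa [Matrix.SpecialLinearGroup.coe_pow] using of_rho_eq_one p f h

/-- Diagonal elements. -/
def diagSL (a : E) (ha : a ≠ 0) : SL :=
  ⟨!![a, 0; 0, a⁻¹], by simp [Matrix.det_fin_two, mul_inv_cancel₀ ha]⟩

/-- Antidiagonal elements. -/
def antiSL (a : E) (ha : a ≠ 0) : SL :=
  ⟨!![0, a; -a⁻¹, 0], by simp [Matrix.det_fin_two, mul_inv_cancel₀ ha]⟩

theorem dvd_of_pow_two_mul {a : E} {N k : ℕ} (ha : orderOf a = N) (h : a ^ (2 * k) = 1) :
    N ∣ 2 * k := ha ▸ orderOf_dvd_of_pow_eq_one h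

variable {q : ℕ} (hq : q = p ^ f) (hE : Fintype.card E = q ^ 2)

theorem transpose_two (a b c d : E) : (!![a, b; c, d] : M2)ᵀ = !![a, c; b, d] := by
  ext i j
  fin_cases i <;> fin_cases j <;> rfl

theorem diagSL_val (a : E) (ha : a ≠ 0) : (diagSL a ha).1 = !![a, 0; 0, a⁻¹] := rfl

theorem antiSL_val (a : E) (ha : a ≠ 0) : (antiSL a ha).1 = !![0, a; -a⁻¹, 0] := rfl

include hq in
theorem twist_diag (a : E) (ha : a ≠ 0) :
    (twist p f (diagSL a ha)).1 = !![a ^ q, 0; 0, (a ^ q)⁻¹] := by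
  rw [twist_val, diagSL_val]
  ext i j
  fin_cases i <;> fin_cases j <;>
    simp [frob_apply p f hq, zero_pow (hq ▸ pow_ne_zero f (Fact.out : p.Prime).ne_zero : q ≠ 0)]

include hq in
theorem twist_anti (a : E) (ha : a ≠ 0) :
    (twist p f (antiSL a ha)).1 = !![0, a ^ q; -(a ^ q)⁻¹, 0] := by
  rw [twist_val, antiSL_val]
  ext i j
  fin_cases i <;> fin_cases j <;>
    simp [← frob_apply p f hq]

include hq hE in
theorem q_facts : 2 ≤ q ∧ p ∣ q ∧ ¬ p ∣ q - 1 ∧ ¬ p ∣ q + 1 ∧ ¬ p ∣ q ^ 2 - 1 ∧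
    q ^ 2 - 1 = (q - 1) * (q + 1) := by
  have h1 : 1 < q ^ 2 := hE ▸ Fintype.one_lt_card
  have h2 : 2 ≤ q := by
    by_contra h
    interval_cases q <;> simp at h1
  have hf0 : f ≠ 0 := by
    intro h0
    rw [h0, pow_zero] at hq
    omega
  have hpq : p ∣ q := hq ▸ dvd_pow_self p hf0
  have hp := (Fact.out : p.Prime)
  refine ⟨h2, hpq, fun h => ?_, fun h => ?_, fun h => ?_, sq_sub_one_eq q⟩
  · have := Nat.dvd_sub hpq h
    rw [Nat.sub_sub_self (by omega)] at this
    exact hp.not_dvd_one this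
  · have := Nat.dvd_sub h hpq
    rw [Nat.add_sub_cancel_left] at this
    exact hp.not_dvd_one this
  · have := Nat.dvd_sub (dvd_pow hpq two_ne_zero) h
    rw [Nat.sub_sub_self h1.le] at this
    exact hp.not_dvd_one this

include hq hE in
theorem lower_large {Γ : Subgroup (Module.End E M2)ˣ} (hΓ : ∀ g, rho p f g ∈ Γ) {n : ℕ}
    (hn : (p = 2 ∧ (n = q ^ 2 + 1 ∨ n = q ^ 2 - 1)) ∨
      (p ≠ 2 ∧ (n = (q ^ 2 + 1) / 2 ∨ n = (q ^ 2 - 1) / 2))) :
    ∃ x : Ext Γ, orderOf x = n := by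
  obtain ⟨h2, -, -, -, -, -⟩ := q_facts p f hq hE
  obtain ⟨N, hN, hNn⟩ : ∃ N, (N = q ^ 2 - 1 ∨ N = q ^ 2 + 1) ∧ ∀ k, N ∣ 2 * k → n ∣ k := by
    have h1 : 1 ≤ q ^ 2 := Nat.one_le_pow _ _ (by omega)
    rcases hn with ⟨h, hn⟩ | ⟨h, hn⟩
    · subst h
      have he : Even (q ^ 2) := by
        obtain ⟨-, hpq, -⟩ := q_facts 2 f hq hE
        exact Nat.even_pow.2 ⟨even_iff_two_dvd.2 hpq, two_ne_zero⟩
      obtain ⟨a, ha⟩ := he
      rcases hn with rfl | rfl
      · exact ⟨_, Or.inr rfl, fun k hk => (Nat.coprime_comm.1 (Nat.prime_two.coprime_iff_not_dvd.2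
          (fun h => by omega))).dvd_of_dvd_mul_left hk⟩
      · exact ⟨_, Or.inl rfl, fun k hk => (Nat.coprime_comm.1 (Nat.prime_two.coprime_iff_not_dvd.2
          (fun h => by omega))).dvd_of_dvd_mul_left hk⟩
    · obtain ⟨e1, e2, -, -⟩ := half_dvd (Fact.out : p.Prime) h hq
      rcases hn with rfl | rfl
      · exact ⟨_, Or.inr rfl, fun k hk => Nat.dvd_of_mul_dvd_mul_left two_pos (e2.symm ▸ hk)⟩
      · exact ⟨_, Or.inl rfl, fun k hk => Nat.dvd_of_mul_dvd_mul_left two_pos (e1.symm ▸ hk)⟩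
  obtain ⟨g, hg⟩ := exists_large p q f hq hE hN
  refine exists_orderOf_of_dvd (mk (0 : M2) (⟨rho p f g, hΓ g⟩ : ↥Γ)) fun k hk => ?_
  refine dvd_of_inr (fun j hj => hNn j (hg j ?_)) hk
  have := congrArg Subtype.val hj
  rw [SubmonoidClass.coe_pow] at this
  simpa [Matrix.SpecialLinearGroup.coe_pow] using dvd_of_rho_pow p f (g := g) (k := j) this

include hq hE in
theorem lower_four {Γ : Subgroup (Module.End E M2)ˣ} (hΓ : ∀ g, rho p f g ∈ Γ) (h2 : p = 2) :
    ∃ x : Ext Γ, orderOf x = 4 := by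
  subst h2
  obtain ⟨g, hg⟩ : ∃ g : SL, g.1 = !![1, 1; 0, 1] :=
    ⟨⟨!![1, 1; 0, 1], by simp [Matrix.det_fin_two]⟩, rfl⟩
  obtain ⟨γ, hγ⟩ : ∃ γ : ↥Γ, γ.1 = rho 2 f g := ⟨⟨_, hΓ g⟩, rfl⟩
  refine ⟨mk (!![0, 0; 0, 1] : M2) γ, orderOf_prime_sq 2 ?_ ?_⟩
  · refine Subtype.ext ?_
    rw [SubmonoidClass.coe_pow, hγ, rho_pow_eq_one 2 f (Or.inl ?_)]
    · rfl
    · rw [hg, sq]
      ext i j
      fin_cases i <;> fin_cases j <;> simp [CharTwo.add_self_eq_zero]
  · intro h
    rw [Finset.sum_range_succ, Finset.sum_range_one, pow_zero, pow_one, LinearMap.add_apply,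
      hγ, rho_apply, twist_val, hg] at h
    rw [show (!![1, 1; 0, 1] : M2).map (iterateFrobenius E 2 f) = !![1, 1; 0, 1] by
      ext i j; fin_cases i <;> fin_cases j <;> simp, transpose_two, Matrix.mul_fin_two,
      Matrix.mul_fin_two] at h
    have := congrFun (congrFun h 0) 0
    simp at this

include hq hE in
theorem lower_even_small {Γ : Subgroup (Module.End E M2)ˣ} (hΓ : ∀ g, rho p f g ∈ Γ) (h2 : p = 2)
    {N : ℕ} (hN : N = q - 1 ∨ N = q + 1) : ∃ x : Ext Γ, orderOf x = p * N := by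
  obtain ⟨hq2, -, hp1, hp2, -, hsq⟩ := q_facts p f hq hE
  have hpN : ¬ p ∣ N := by rcases hN with rfl | rfl <;> assumption
  obtain ⟨a, ha, hord⟩ := exists_order_in (E := E) p hpN (by
    rw [hE, hsq]; rcases hN with rfl | rfl
    · exact dvd_mul_right _ _
    · exact dvd_mul_left _ _)
  have haN : a ^ N = 1 := hord ▸ pow_orderOf_eq_one a
  obtain ⟨v, hv, hfix⟩ : ∃ v : M2, v ≠ 0 ∧ (diagSL a ha).1 * v * (twist p f (diagSL a ha)).1ᵀ = v := by
    rw [twist_diag p f hq, diagSL_val]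
    rcases hN with rfl | rfl
    · refine ⟨!![0, 1; 0, 0], fun h => by simpa using congrFun (congrFun h 0) 1, ?_⟩
      have h1 : a ^ q = a := by
        conv_lhs => rw [show q = (q - 1) + 1 by omega, pow_succ, haN, one_mul]
      rw [h1]
      ext i j
      fin_cases i <;> fin_cases j <;> simp [Matrix.mul_apply, Fin.sum_univ_two, ha]
    · refine ⟨!![1, 0; 0, 0], fun h => by simpa using congrFun (congrFun h 0) 0, ?_⟩
      have h1 : a * a ^ q = 1 := by rw [← pow_succ', haN]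
      ext i j
      fin_cases i <;> fin_cases j <;> simp [Matrix.mul_apply, Fin.sum_univ_two, h1]
  refine exists_orderOf_of_dvd (mk v (⟨rho p f (diagSL a ha), hΓ _⟩ : ↥Γ)) fun m hm => ?_
  refine dvd_of_fixed p hv (by rw [rho_apply]; exact hfix) (fun j hj => ?_) hpN hm
  have h1 := congrArg Subtype.val hj
  rw [SubmonoidClass.coe_pow] at h1
  have h3 := dvd_of_pow_two_mul hord (eigen_sign (dvd_of_rho_pow p f h1) (v := ![1, 0]) (r := a)
    (fun h => by simpa using congrFun h 0)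
    (by funext i; fin_cases i <;> simp [diagSL, Matrix.mulVec, dotProduct, Fin.sum_univ_two]))
  exact (Nat.coprime_comm.1 (Nat.prime_two.coprime_iff_not_dvd.2 (h2 ▸ hpN))).dvd_of_dvd_mul_left h3

include hq hE in
theorem lower_odd_small (h2 : p ≠ 2) {N : ℕ} (hN : N = q - 1 ∨ N = q + 1) :
    ∃ x : Ext (outerGroup p f hq hE), orderOf x = p * N := by
  obtain ⟨hq2, -, hp1, hp2, hp3, hsq⟩ := q_facts p f hq hE
  have hpN : ¬ p ∣ N := by rcases hN with rfl | rfl <;> assumption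
  obtain ⟨a, ha, hord⟩ := exists_order_in (E := E) p hp3 (by rw [hE])
  have haq : (a ^ q) ^ q = a := by rw [← pow_mul, ← sq, ← hE, FiniteField.pow_card]
  have haN : a ^ ((q - 1) * (q + 1)) = 1 := by rw [← hsq, ← hord]; exact pow_orderOf_eq_one a
  obtain ⟨g, v, hv, hfix, hdvd⟩ : ∃ (g : SL) (v : M2), v ≠ 0 ∧ g.1 * vᵀ * (twist p f g).1ᵀ = v ∧
      ∀ j, ((g * twist p f g).1 ^ j = 1 ∨ (g * twist p f g).1 ^ j = -1) → N ∣ 2 * j := by
    rcases hN with rfl | rfl
    · refine ⟨diagSL a ha, !![0, a; a ^ q, 0], fun h => ha (by simpa using congrFun (congrFun h 0) 1),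
        ?_, fun j hj => ?_⟩
      · rw [twist_diag p f hq, diagSL_val, transpose_two, transpose_two, Matrix.mul_fin_two,
          Matrix.mul_fin_two]
        ext i j
        fin_cases i <;> fin_cases j <;> simp [Matrix.mul_apply, Fin.sum_univ_two] <;> field_simp
      · have he := eigen_sign hj (v := ![1, 0]) (r := a * a ^ q) (fun h => by simpa using congrFun h 0)
          (by
            rw [Matrix.SpecialLinearGroup.coe_mul, twist_diag p f hq, diagSL_val]
            funext i; fin_cases i <;> simp [Matrix.mulVec, dotProduct, Fin.sum_univ_two])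
        rw [← pow_succ', ← pow_mul] at he
        have h3 := orderOf_dvd_of_pow_eq_one he
        rw [hord, hsq, Nat.mul_comm (q - 1)] at h3
        exact Nat.dvd_of_mul_dvd_mul_left (by omega) h3
    · refine ⟨antiSL a ha, !![a ^ (q + 1), 0; 0, 1],
        fun h => one_ne_zero (α := E) (by simpa using congrFun (congrFun h 1) 1), ?_, fun j hj => ?_⟩
      · rw [twist_anti p f hq, antiSL_val, transpose_two, transpose_two, Matrix.mul_fin_two,
          Matrix.mul_fin_two]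
        ext i j
        fin_cases i <;> fin_cases j <;> simp [Matrix.mul_apply, Fin.sum_univ_two, pow_succ, ha] <;>
          field_simp
      · have he := eigen_sign hj (v := ![1, 0]) (r := -(a * (a ^ q)⁻¹)) (fun h => by simpa using congrFun h 0)
          (by
            rw [Matrix.SpecialLinearGroup.coe_mul, twist_anti p f hq, antiSL_val]
            funext i; fin_cases i <;> simp [Matrix.mulVec, dotProduct, Fin.sum_univ_two])
        rw [Even.neg_pow (even_two_mul j), mul_pow, inv_pow,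
          mul_inv_eq_one₀ (pow_ne_zero _ (pow_ne_zero _ ha)), ← pow_mul] at he
        have h4 : a ^ ((q - 1) * (2 * j)) = 1 := by
          refine mul_right_cancel₀ (pow_ne_zero (2 * j) ha) ?_
          rw [one_mul, ← pow_add, ← Nat.succ_mul, show (q - 1).succ = q by omega, ← he]
        have h3 := orderOf_dvd_of_pow_eq_one h4
        rw [hord, hsq] at h3
        exact Nat.dvd_of_mul_dvd_mul_left (by omega) h3
  obtain ⟨γ, hγ⟩ : ∃ γ : ↥(outerGroup p f hq hE), γ.1 = rho p f g * tau := ⟨⟨_, g, Or.inr rfl⟩, rfl⟩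
  refine exists_orderOf_of_dvd (mk v γ) fun m hm => ?_
  refine dvd_of_fixed p hv (by
    rw [hγ, Units.val_mul, Module.End.mul_apply, tau_apply, rho_apply]; exact hfix)
    (fun k hk => ?_) hpN hm
  have h1 := congrArg Subtype.val hk
  rw [SubmonoidClass.coe_pow] at h1
  rcases Nat.even_or_odd' k with ⟨j, rfl | rfl⟩
  · rw [pow_mul, outer_sq p f hq hE hγ] at h1
    exact hdvd j (dvd_of_rho_pow p f h1)
  · exfalso
    rw [pow_succ, pow_mul, outer_sq p f hq hE hγ, ← map_pow, hγ, ← mul_assoc, ← map_mul] at h1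
    refine tau_ne_rho p f (((g * twist p f g) ^ j * g)⁻¹) ?_
    rw [map_inv]
    exact eq_inv_of_mul_eq_one_right h1

include hq hE in
theorem range_outer (h5 : 5 ≤ p) :
    Set.range (orderOf : Ext (outerGroup p f hq hE) → ℕ) = good p q := by
  have hΓ : ∀ g, rho p f g ∈ outerGroup p f hq hE := fun g => ⟨g, Or.inl rfl⟩
  refine range_eq (fun x => ?_) (fun n hn => ?_)
  · obtain ⟨v, γ, rfl⟩ := exists_mk x
    obtain ⟨g, hg | hg⟩ := γ.2
    · exact inner_upper p f hq hE (by omega) v γ g hg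
    · exact outer_upper p f hq hE h5 v γ g hg
  · rcases hn with ⟨h, -⟩ | ⟨h2, hn⟩ | ⟨h3, -⟩ | rfl | rfl
    · omega
    · exact lower_large p f hq hE hΓ (Or.inr ⟨h2, hn⟩)
    · omega
    · exact lower_odd_small p f hq hE (by omega) (Or.inl rfl)
    · exact lower_odd_small p f hq hE (by omega) (Or.inr rfl)

include hq hE in
theorem range_even (h2 : p = 2) :
    Set.range (orderOf : Ext (rho (E := E) p f).range → ℕ) = good p q := by
  have hΓ : ∀ g, rho p f g ∈ (rho (E := E) p f).range := fun g => ⟨g, rfl⟩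
  refine range_eq (fun x => ?_) (fun n hn => ?_)
  · obtain ⟨v, γ, rfl⟩ := exists_mk x
    obtain ⟨g, hg⟩ := γ.2
    exact inner_upper p f hq hE (by omega) v γ g hg.symm
  · rcases hn with ⟨-, hn | hn | hn⟩ | ⟨h, -⟩ | ⟨h3, -⟩ | rfl | rfl
    · exact lower_large p f hq hE hΓ (Or.inl ⟨h2, Or.inl hn⟩)
    · exact lower_large p f hq hE hΓ (Or.inl ⟨h2, Or.inr hn⟩)
    · subst hn
      exact lower_four p f hq hE hΓ h2
    · omega
    · omega
    · exact lower_even_small p f hq hE hΓ h2 (Or.inl rfl)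
    · exact lower_even_small p f hq hE hΓ h2 (Or.inr rfl)

end Cfsg.Agent.Lead.SpFourSpectrum
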