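import Mathlib

/-!
Element orders in a module extended by a group of linear maps.
-/

set_option autoImplicit false

namespace Cfsg.Agent.Lead.SpFourSpectrum

variable {k : Type} [Field k] {V : Type} [AddCommGroup V] [Module k V]

/-- A unit of the endomorphism ring as a linear equivalence. -/
abbrev unitEquiv : (Module.End k V)ˣ →* (V ≃ₗ[k] V) :=
  (LinearMap.GeneralLinearGroup.generalLinearEquiv k V).toMonoidHom

/-- The action on the multiplicative copy of the module. -/
def act (Γ : Subgroup (Module.End k V)ˣ) : ↥Γ →* MulAut (Multiplicative V) where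
  toFun γ := AddEquiv.toMultiplicative (unitEquiv γ.1).toAddEquiv
  map_one' := by ext x; rfl
  map_mul' a b := by ext x; rfl

/-- The module extended by the group of linear maps. -/
abbrev Ext (Γ : Subgroup (Module.End k V)ˣ) : Type := SemidirectProduct (Multiplicative V) ↥Γ (act Γ)

instance finite_ext (Γ : Subgroup (Module.End k V)ˣ) [Finite V] : Finite (Ext Γ) :=
  haveI : Finite (Module.End k V) := Finite.of_injective _ DFunLike.coe_injective
  haveI : Finite (Module.End k V)ˣ := Finite.of_injective _ Units.val_injective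
  Finite.of_equiv _ SemidirectProduct.equivProd.symm

variable {Γ : Subgroup (Module.End k V)ˣ}

/-- The element with given components. -/
def mk (v : V) (γ : ↥Γ) : Ext Γ := ⟨Multiplicative.ofAdd v, γ⟩

theorem exists_mk (h : Ext Γ) : ∃ v γ, h = mk v γ := ⟨Multiplicative.toAdd h.left, h.right, rfl⟩

theorem pow_mk (v : V) (γ : ↥Γ) (n : ℕ) :
    mk v γ ^ n = mk ((∑ i ∈ Finset.range n, (γ.1.1 : Module.End k V) ^ i) v) (γ ^ n) := by
  induction n with
  | zero => rfl
  | succ n ih =>
    rw [pow_succ', ih]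
    refine SemidirectProduct.ext ?_ (pow_succ' γ n).symm
    simp only [mk, SemidirectProduct.mul_left]
    have h : ∑ i ∈ Finset.range (n + 1), (γ.1.1 : Module.End k V) ^ i =
        1 + γ.1.1 * ∑ i ∈ Finset.range n, (γ.1.1 : Module.End k V) ^ i := by
      rw [Finset.sum_range_succ', pow_zero, Finset.mul_sum, add_comm]
      exact congrArg _ (Finset.sum_congr rfl fun i _ => pow_succ' _ i)
    rw [h]
    rfl

theorem mk_eq_one {v : V} {γ : ↥Γ} : mk v γ = 1 ↔ v = 0 ∧ γ = 1 := by
  constructor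
  · intro h
    exact ⟨congrArg (fun z : Ext Γ => Multiplicative.toAdd z.left) h,
      congrArg SemidirectProduct.right h⟩
  · rintro ⟨rfl, rfl⟩
    rfl

theorem pow_eq_one_of_sum (v : V) {γ : ↥Γ} {n : ℕ} (hγ : γ ^ n = 1)
    (hs : (∑ i ∈ Finset.range n, (γ.1.1 : Module.End k V) ^ i) v = 0) : mk v γ ^ n = 1 := by
  rw [pow_mk, mk_eq_one]
  exact ⟨hs, hγ⟩

theorem pow_mul_eq_one (p : ℕ) [CharP k p] (v : V) {γ : ↥Γ} {n : ℕ} (hγ : γ ^ n = 1) :
    mk v γ ^ (p * n) = 1 := by
  rw [Nat.mul_comm, pow_mul, pow_mk v γ n, hγ, pow_mk, mk_eq_one]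
  refine ⟨?_, one_pow p⟩
  simp only [OneMemClass.coe_one, Units.val_one, one_pow, Finset.sum_const, Finset.card_range,
    LinearMap.smul_apply]
  rw [← Nat.cast_smul_eq_nsmul k, CharP.cast_eq_zero, zero_smul]

theorem sum_eq_zero_of_no_fixed {γ : ↥Γ} {n : ℕ} (hγ : γ ^ n = 1)
    (hfix : ∀ w : V, (γ.1.1 : Module.End k V) w = w → w = 0) (v : V) :
    (∑ i ∈ Finset.range n, (γ.1.1 : Module.End k V) ^ i) v = 0 := by
  refine hfix _ (sub_eq_zero.1 ?_)
  have h1 : (γ.1.1 : Module.End k V) ^ n = 1 := by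
    have := congrArg (fun z : ↥Γ => (z.1.1 : Module.End k V)) hγ
    simpa using this
  have h2 := mul_geom_sum (γ.1.1 : Module.End k V) n
  rw [h1, sub_self] at h2
  simpa [sub_mul] using congrArg (fun z : Module.End k V => z v) h2

/-- If `γ` has order dividing `n`, then so has every element above it unless `γ` fixes a
non-zero vector. -/
theorem pow_eq_one_or_fixed (v : V) {γ : ↥Γ} {n : ℕ} (hγ : γ ^ n = 1) :
    mk v γ ^ n = 1 ∨ ∃ w : V, w ≠ 0 ∧ (γ.1.1 : Module.End k V) w = w := by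
  by_cases hfix : ∀ w : V, (γ.1.1 : Module.End k V) w = w → w = 0
  · exact Or.inl (pow_eq_one_of_sum v hγ (sum_eq_zero_of_no_fixed hγ hfix v))
  · push Not at hfix
    obtain ⟨w, h1, h2⟩ := hfix
    exact Or.inr ⟨w, h2, h1⟩

theorem dvd_of_fixed (p : ℕ) [Fact p.Prime] [CharP k p] {v : V} (hv : v ≠ 0) {γ : ↥Γ}
    (hfix : (γ.1.1 : Module.End k V) v = v) {n m : ℕ} (hn : ∀ j, γ ^ j = 1 → n ∣ j)
    (hpn : ¬ p ∣ n) (hm : mk v γ ^ m = 1) : p * n ∣ m := by
  rw [pow_mk, mk_eq_one] at hm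
  have hpow : ∀ i : ℕ, ((γ.1.1 : Module.End k V) ^ i) v = v := by
    intro i
    induction i with
    | zero => rfl
    | succ i ih => rw [pow_succ, Module.End.mul_apply, hfix, ih]
  have h1 := hm.1
  rw [LinearMap.sum_apply, Finset.sum_congr rfl (fun i _ => hpow i), Finset.sum_const,
    Finset.card_range, ← Nat.cast_smul_eq_nsmul k, smul_eq_zero] at h1
  exact ((Fact.out : p.Prime).coprime_iff_not_dvd.2 hpn).mul_dvd_of_dvd_of_dvd
    ((CharP.cast_eq_zero_iff k p m).1 (h1.resolve_right hv)) (hn m hm.2)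

theorem dvd_of_inr {γ : ↥Γ} {n m : ℕ} (hn : ∀ j, γ ^ j = 1 → n ∣ j)
    (hm : mk (0 : V) γ ^ m = 1) : n ∣ m := by
  rw [pow_mk, mk_eq_one] at hm
  exact hn m hm.2

theorem orderOf_prime_sq (p : ℕ) [Fact p.Prime] [CharP k p] {v : V} {γ : ↥Γ} (hγ : γ ^ p = 1)
    (hv : (∑ i ∈ Finset.range p, (γ.1.1 : Module.End k V) ^ i) v ≠ 0) :
    orderOf (mk v γ) = p ^ 2 := by
  refine orderOf_eq_prime_pow (p := p) (n := 1) (fun h => ?_) ?_
  · rw [pow_one, pow_mk, mk_eq_one] at h
    exact hv h.1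
  · rw [sq]
    exact pow_mul_eq_one p v hγ

/-- The normal subgroup of translations. -/
theorem exists_abelian_normal [Nontrivial V] :
    ∃ K : Subgroup (Ext Γ), K.Normal ∧ K ≠ ⊥ ∧ Group.IsSolvable K := by
  refine ⟨(SemidirectProduct.inl : Multiplicative V →* Ext Γ).range, ?_, ?_, ?_⟩
  · rw [SemidirectProduct.range_inl_eq_ker_rightHom]
    exact MonoidHom.normal_ker _
  · intro h
    obtain ⟨v, hv⟩ := exists_ne (0 : V)
    have hmem : SemidirectProduct.inl (Multiplicative.ofAdd v) ∈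
        (SemidirectProduct.inl : Multiplicative V →* Ext Γ).range := ⟨_, rfl⟩
    rw [h, Subgroup.mem_bot] at hmem
    exact hv (by simpa using SemidirectProduct.inl_injective (hmem.trans (map_one _).symm))
  · exact Group.isSolvable_of_surjective
      (f := (SemidirectProduct.inl : Multiplicative V →* Ext Γ).rangeRestrict)
      (MonoidHom.rangeRestrict_surjective _)

end Cfsg.Agent.Lead.SpFourSpectrum
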