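import Cfsg.Agent.Lib.Lead.SpFourSpectrum.Basic

/-!
The prospective spectrum.
-/

set_option autoImplicit false

open Polynomial

namespace Cfsg.Agent.Lead.SpFourSpectrum

/-- The maximal element orders. -/
def Bound (p q n : ℕ) : Prop :=
  (p = 2 ∧ (n = q ^ 2 + 1 ∨ n = q ^ 2 - 1 ∨ n = 4)) ∨
  (p ≠ 2 ∧ (n = (q ^ 2 + 1) / 2 ∨ n = (q ^ 2 - 1) / 2)) ∨
  (p = 3 ∧ n = 9) ∨ n = p * (q - 1) ∨ n = p * (q + 1)

/-- The prospective spectrum. -/
def good (p q : ℕ) : Set ℕ := {d | ∃ n, Bound p q n ∧ d ∣ n}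

theorem range_eq {H : Type*} [Group H] [Finite H] {p q : ℕ} (hup : ∀ x : H, ∃ n, Bound p q n ∧ x ^ n = 1)
    (hlow : ∀ n, Bound p q n → ∃ x : H, orderOf x = n) :
    Set.range (orderOf : H → ℕ) = good p q := by
  ext d
  constructor
  · rintro ⟨x, rfl⟩
    obtain ⟨n, hn, hx⟩ := hup x
    exact ⟨n, hn, orderOf_dvd_of_pow_eq_one hx⟩
  · rintro ⟨n, hn, hd⟩
    obtain ⟨x, hx⟩ := hlow n hn
    refine ⟨x ^ (n / d), ?_⟩
    rw [← hx] at hd ⊢
    exact orderOf_pow_orderOf_div (orderOf_pos x).ne' hd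

theorem half_dvd {p q f : ℕ} (hp : p.Prime) (h2 : p ≠ 2) (hq : q = p ^ f) :
    2 * ((q ^ 2 - 1) / 2) = q ^ 2 - 1 ∧ 2 * ((q ^ 2 + 1) / 2) = q ^ 2 + 1 ∧
      2 * ((q - 1) / 2) = q - 1 ∧ 2 * ((q + 1) / 2) = q + 1 := by
  have ho : Odd q := hq ▸ (hp.odd_of_ne_two h2).pow
  have ho2 : Odd (q ^ 2) := ho.pow
  refine ⟨?_, ?_, ?_, ?_⟩ <;>
    · obtain ⟨a, ha⟩ := ho
      obtain ⟨b, hb⟩ := ho2
      omega

theorem sq_sub_one_eq (q : ℕ) : q ^ 2 - 1 = (q - 1) * (q + 1) := by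
  have : q ^ 2 - 1 ^ 2 = (q + 1) * (q - 1) := Nat.sq_sub_sq q 1
  rw [one_pow] at this
  rw [this, Nat.mul_comm]

variable {K : Type*} [Field K]

theorem exists_scalar_one (p q f : ℕ) [Fact p.Prime] [CharP K p] (hq : q = p ^ f) {r : K}
    (h : r ^ (q - 1) = 1 ∨ r ^ (q + 1) = 1) :
    (p = 2 → r ^ (q ^ 2 - 1) = 1) ∧ (p ≠ 2 → r ^ ((q ^ 2 - 1) / 2) = 1) := by
  have h' : r ^ (q ^ 2 - 1) = 1 := by
    rw [sq_sub_one_eq]
    rcases h with h | h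
    · rw [pow_mul, h, one_pow]
    · rw [Nat.mul_comm, pow_mul, h, one_pow]
  refine ⟨fun _ => h', fun h2 => ?_⟩
  obtain ⟨-, -, e1, e2⟩ := half_dvd (Fact.out : p.Prime) h2 hq
  rw [sq_sub_one_eq]
  rcases h with h | h
  · rw [← e2, show (q - 1) * (2 * ((q + 1) / 2)) / 2 = (q - 1) * ((q + 1) / 2) by
      rw [Nat.mul_left_comm, Nat.mul_div_cancel_left _ Nat.zero_lt_two], pow_mul, h, one_pow]
  · rw [← e1, show 2 * ((q - 1) / 2) * (q + 1) / 2 = (q + 1) * ((q - 1) / 2) by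
      rw [Nat.mul_assoc, Nat.mul_div_cancel_left _ Nat.zero_lt_two, Nat.mul_comm], pow_mul, h,
      one_pow]

theorem split_pair (r : K) (hr : r ≠ 0) :
    (X - C r) * (X - C r⁻¹) = X ^ 2 - C (r + r⁻¹) * X + 1 := by
  have h : (C r : K[X]) * C r⁻¹ = 1 := by rw [← map_mul, mul_inv_cancel₀ hr, map_one]
  rw [map_add]
  linear_combination h

theorem exists_trace_root [IsAlgClosed K] (t : K) : ∃ r : K, r ≠ 0 ∧ r + r⁻¹ = t := by
  obtain ⟨r, hr⟩ := IsAlgClosed.exists_root (X ^ 2 - C t * X + 1)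
    (by rw [show (X ^ 2 - C t * X + 1 : K[X]).degree = 2 by compute_degree!]; decide)
  simp only [IsRoot.def, eval_add, eval_sub, eval_pow, eval_X, eval_mul, eval_C, eval_one] at hr
  have h0 : r ≠ 0 := by rintro rfl; simp at hr
  refine ⟨r, h0, ?_⟩
  field_simp
  linear_combination hr

theorem quartic_split [IsAlgClosed K] (a b : K) : ∃ r u : K, r ≠ 0 ∧ u ≠ 0 ∧
    X ^ 4 + C a * X ^ 3 + C b * X ^ 2 + C a * X + 1 =
      (X - C r) * (X - C r⁻¹) * ((X - C u) * (X - C u⁻¹)) := by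
  obtain ⟨s, hs⟩ := IsAlgClosed.exists_root (X ^ 2 + C a * X + C (b - 2))
    (by rw [show (X ^ 2 + C a * X + C (b - 2) : K[X]).degree = 2 by compute_degree!]; decide)
  simp only [IsRoot.def, eval_add, eval_pow, eval_X, eval_mul, eval_C] at hs
  obtain ⟨r, hr, hrs⟩ := exists_trace_root s
  obtain ⟨u, hu, hus⟩ := exists_trace_root (-a - s)
  refine ⟨r, u, hr, hu, ?_⟩
  rw [split_pair r hr, split_pair u hu, hrs, hus]
  have h : (C s : K[X]) ^ 2 + C a * C s + (C b - 2) = 0 := by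
    have := congrArg C hs
    simpa [map_add, map_mul, map_pow, map_sub, map_ofNat] using this
  rw [map_sub, map_neg]
  linear_combination X ^ 2 * h

end Cfsg.Agent.Lead.SpFourSpectrum
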