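import Cfsg.Agent.Lib.Lead.SpFourSpectrum.Target
import Cfsg.Agent.Lib.Classical.SpectrumPSpFour

/-!
Every element of `PSp₄(q)` has order dividing one of the bounds.
-/

set_option autoImplicit false

open Polynomial

namespace Cfsg.Agent.Lead.SpFourSpectrum

variable {F : Type*} [Field F] [Fintype F] {K : Type*} [Field K] [IsAlgClosed K]

local notation "M4" => Matrix (Fin 2 ⊕ Fin 2) (Fin 2 ⊕ Fin 2)

/-- Root data of a symplectic matrix over an algebraically closed overfield. -/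
theorem exists_bound_pow (ι : F →+* K) (p q f : ℕ) [Fact p.Prime] [CharP K p]
    (hq : q = p ^ f) (hF : Fintype.card F = q) (g : Matrix.symplecticGroup (Fin 2) F) :
    ∃ n, Bound p q n ∧ ∃ c : K, (g.1.map ι) ^ n = algebraMap K (M4 K) c := by
  obtain ⟨a, b, hab⟩ := Classical.SpectrumPSpFour.charpoly_four g
  obtain ⟨r, u, hr, hu, hsplit⟩ := quartic_split (ι a) (ι b)
  have hmap : g.1.charpoly.map ι = (X - C r) * (X - C r⁻¹) * ((X - C u) * (X - C u⁻¹)) := by
    rw [hab, ← hsplit]; simp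
  have h0 : aeval (g.1.map ι) ((X - C r) * (X - C r⁻¹) * ((X - C u) * (X - C u⁻¹))) = 0 := by
    rw [← hmap, ← Matrix.charpoly_map]
    exact Matrix.aeval_self_charpoly _
  have hroot : ∀ x, (g.1.charpoly.map ι).IsRoot x ↔ x = r ∨ x = r⁻¹ ∨ x = u ∨ x = u⁻¹ := by
    intro x
    rw [hmap]
    simp only [IsRoot.def, eval_mul, eval_sub, eval_X, eval_C, mul_eq_zero, sub_eq_zero, or_assoc]
  have hinj : ∀ x y : K, x ^ q = y ^ q → x = y := fun x y h => pow_prime_pow_inj p f (by rwa [hq] at h)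
  have hfrob : ∀ x, (x = r ∨ x = r⁻¹ ∨ x = u ∨ x = u⁻¹) →
      x ^ q = r ∨ x ^ q = r⁻¹ ∨ x ^ q = u ∨ x ^ q = u⁻¹ := fun x hx =>
    (hroot _).1 (hF ▸ root_pow_card ι ((hroot x).2 hx))
  have hq0 : 0 < q := hq ▸ pow_pos (Fact.out : p.Prime).pos f
  -- `x ^ q ∈ {x, x⁻¹}` in terms of exponents
  have hsame : ∀ x : K, x ≠ 0 → (x ^ q = x ∨ x ^ q = x⁻¹) → x ^ (q - 1) = 1 ∨ x ^ (q + 1) = 1 :=
    fun x hx h => (pow_eq_self_or_inv hx hq0).2 h
  -- the reduced case in which all four roots lie in the small tori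
  have small : (r ^ (q - 1) = 1 ∨ r ^ (q + 1) = 1) → (u ^ (q - 1) = 1 ∨ u ^ (q + 1) = 1) →
      r ≠ r⁻¹ → u ≠ u⁻¹ → r ≠ u → r ≠ u⁻¹ →
      ∃ n, Bound p q n ∧ ∃ c : K, (g.1.map ι) ^ n = algebraMap K (M4 K) c := by
    intro hr1 hu1 n1 n2 n3 n4
    have n5 : r⁻¹ ≠ u := fun e => n4 (by rw [← e, inv_inv])
    have n6 : r⁻¹ ≠ u⁻¹ := fun e => n3 (inv_injective e)
    by_cases h2 : p = 2
    · refine ⟨q ^ 2 - 1, Or.inl ⟨h2, Or.inr (Or.inl rfl)⟩, 1, pow_eq_of_dvd h0 ?_⟩
      have e1 := (exists_scalar_one p q f hq hr1).1 h2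
      have e2 := (exists_scalar_one p q f hq hu1).1 h2
      exact dvd_four n1 n3 n4 n5 n6 n2 e1 (by rw [inv_pow, e1, inv_one]) e2
        (by rw [inv_pow, e2, inv_one])
    · refine ⟨(q ^ 2 - 1) / 2, Or.inr (Or.inl ⟨h2, Or.inr rfl⟩), 1, pow_eq_of_dvd h0 ?_⟩
      have e1 := (exists_scalar_one p q f hq hr1).2 h2
      have e2 := (exists_scalar_one p q f hq hu1).2 h2
      exact dvd_four n1 n3 n4 n5 n6 n2 e1 (by rw [inv_pow, e1, inv_one]) e2
        (by rw [inv_pow, e2, inv_one])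
  -- a repeated root `±1` of multiplicity four
  have four : ∀ e : K, e * e = 1 →
      (X - C r) * (X - C r⁻¹) * ((X - C u) * (X - C u⁻¹)) = (X - C e) ^ 4 →
      ∃ n, Bound p q n ∧ ∃ c : K, (g.1.map ι) ^ n = algebraMap K (M4 K) c := by
    intro e he heq
    rw [heq] at h0
    have hp := (Fact.out : p.Prime)
    by_cases h2 : p = 2
    · subst h2
      obtain ⟨c, -, hc⟩ := dvd_pow_one 2 he (n := 4) (k := 2) le_rfl
      exact ⟨4, Or.inl ⟨rfl, Or.inr (Or.inr rfl)⟩, c, pow_eq_of_dvd h0 hc⟩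
    · by_cases h3 : p = 3
      · subst h3
        obtain ⟨c, -, hc⟩ := dvd_pow_one 3 he (n := 4) (k := 2) (by norm_num)
        exact ⟨9, Or.inr (Or.inr (Or.inl ⟨rfl, rfl⟩)), c, pow_eq_of_dvd h0 hc⟩
      · have h5 : 4 ≤ p ^ 1 := by
          have := hp.two_le
          rw [pow_one]; omega
        obtain ⟨c, hc1, hc⟩ := dvd_pow_one p he (n := 4) (k := 1) h5
        rw [pow_one] at hc
        refine ⟨p * (q - 1), Or.inr (Or.inr (Or.inr (Or.inl rfl))), c ^ (q - 1), ?_⟩
        rw [pow_mul, pow_eq_of_dvd h0 hc, map_pow]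
  -- repeated roots in the small tori
  have large : ∀ x y : K, x ≠ y →
      ((x ^ (q - 1) = 1 ∧ y ^ (q - 1) = 1) ∨ (x ^ (q + 1) = 1 ∧ y ^ (q + 1) = 1)) →
      (X - C r) * (X - C r⁻¹) * ((X - C u) * (X - C u⁻¹)) = (X - C x) ^ 2 * (X - C y) ^ 2 →
      ∃ n, Bound p q n ∧ ∃ c : K, (g.1.map ι) ^ n = algebraMap K (M4 K) c := by
    intro x y hxy h heq
    rw [heq] at h0
    rcases h with ⟨hx, hy⟩ | ⟨hx, hy⟩
    · exact ⟨_, Or.inr (Or.inr (Or.inr (Or.inl rfl))), 1 ^ p,
        pow_eq_of_dvd h0 (dvd_sq_two p hxy hx hy)⟩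
    · exact ⟨_, Or.inr (Or.inr (Or.inr (Or.inr rfl))), 1 ^ p,
        pow_eq_of_dvd h0 (dvd_sq_two p hxy hx hy)⟩
  -- a double root `±1`
  have double : ∀ x y : K, x = x⁻¹ → y ≠ y⁻¹ → x ≠ 0 → (y ^ (q - 1) = 1 ∨ y ^ (q + 1) = 1) →
      (X - C r) * (X - C r⁻¹) * ((X - C u) * (X - C u⁻¹)) = (X - C x) ^ 2 * ((X - C y) * (X - C y⁻¹)) →
      ∃ n, Bound p q n ∧ ∃ c : K, (g.1.map ι) ^ n = algebraMap K (M4 K) c := by
    intro x y hx hy hx0 hy1 heq
    rw [heq] at h0
    have hxx : x * x = 1 := by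
      nth_rw 2 [hx]
      exact mul_inv_cancel₀ hx0
    have hxq : x ^ (q - 1) = 1 ∧ x ^ (q + 1) = 1 := by
      by_cases h2 : p = 2
      · have : x = 1 := by
          subst h2
          rcases mul_self_eq_one_iff.1 hxx with h | h
          · exact h
          · rw [h, CharTwo.neg_eq]
        simp [this]
      · obtain ⟨-, -, e1, e2⟩ := half_dvd (Fact.out : p.Prime) h2 hq
        rw [← e1, ← e2, pow_mul, pow_mul, sq, hxx, one_pow, one_pow]
        exact ⟨rfl, rfl⟩
    have n1 : x ≠ y := fun e => hy (e ▸ hx)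
    have n2 : x ≠ y⁻¹ := fun e => hy (by rw [← e, hx, e, inv_inv])
    rcases hy1 with hy1 | hy1
    · exact ⟨_, Or.inr (Or.inr (Or.inr (Or.inl rfl))), 1 ^ p,
        pow_eq_of_dvd h0 (dvd_sq_one_one p n1 n2 hy hxq.1 hy1 (by rw [inv_pow, hy1, inv_one]))⟩
    · exact ⟨_, Or.inr (Or.inr (Or.inr (Or.inr rfl))), 1 ^ p,
        pow_eq_of_dvd h0 (dvd_sq_one_one p n1 n2 hy hxq.2 hy1 (by rw [inv_pow, hy1, inv_one]))⟩
  -- Frobenius either fixes both pairs or exchanges them
  by_cases hru : u = r ∨ u = r⁻¹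
  · have hpair : (X - C u) * (X - C u⁻¹) = ((X - C r) * (X - C r⁻¹) : K[X]) := by
      rcases hru with rfl | rfl
      · rfl
      · rw [inv_inv, mul_comm]
    have hr1 : r ^ (q - 1) = 1 ∨ r ^ (q + 1) = 1 := by
      refine hsame r hr ?_
      rcases hfrob r (Or.inl rfl) with h | h | h | h
      · exact Or.inl h
      · exact Or.inr h
      · rcases hru with e | e
        · exact Or.inl (e ▸ h)
        · exact Or.inr (e ▸ h)
      · rcases hru with e | e
        · exact Or.inr (e ▸ h)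
        · rw [e, inv_inv] at h; exact Or.inl h
    by_cases hrr : r = r⁻¹
    · refine four r ?_ ?_
      · nth_rw 2 [hrr]; exact mul_inv_cancel₀ hr
      · rw [hpair, ← hrr]; ring
    · refine large r r⁻¹ hrr ?_ (by rw [hpair]; ring)
      rcases hr1 with h | h
      · exact Or.inl ⟨h, by rw [inv_pow, h, inv_one]⟩
      · exact Or.inr ⟨h, by rw [inv_pow, h, inv_one]⟩
  push Not at hru
  have n4 : r ≠ u⁻¹ := fun e => hru.2 (by rw [e, inv_inv])
  by_cases hself : r ^ q = r ∨ r ^ q = r⁻¹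
  · have huself : u ^ q = u ∨ u ^ q = u⁻¹ := by
      rcases hfrob u (Or.inr (Or.inr (Or.inl rfl))) with h | h | h | h
      · exfalso
        rcases hself with e | e
        · exact hru.1 (hinj _ _ (h.trans e.symm))
        · exact hru.2 (hinj _ _ (by rw [h, inv_pow, e, inv_inv]))
      · exfalso
        rcases hself with e | e
        · exact hru.2 (hinj _ _ (by rw [h, inv_pow, e]))
        · exact hru.1 (hinj _ _ (h.trans e.symm))
      · exact Or.inl h
      · exact Or.inr h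
    have hr1 := hsame r hr hself
    have hu1 := hsame u hu huself
    by_cases hrr : r = r⁻¹ <;> by_cases huu : u = u⁻¹
    · refine large r u (Ne.symm hru.1) ?_ (by rw [← hrr, ← huu]; ring)
      have hsq : ∀ z : K, z = z⁻¹ → z ≠ 0 → z ^ (q - 1) = 1 ∨ z ^ (q + 1) = 1 →
          z ^ (q + 1) = 1 := by
        intro z hz hz0 h
        have hz2 : z ^ 2 = 1 := by rw [sq]; nth_rw 2 [hz]; exact mul_inv_cancel₀ hz0
        rcases h with h | h
        · rw [show q + 1 = (q - 1) + 2 by omega, pow_add, h, hz2, one_mul]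
        · exact h
      exact Or.inr ⟨hsq r hrr hr hr1, hsq u huu hu hu1⟩
    · exact double r u hrr huu hr hu1 (by rw [← hrr]; ring)
    · exact double u r huu hrr hu hr1 (by rw [← huu]; ring)
    · exact small hr1 hu1 hrr huu (Ne.symm hru.1) n4
  · push Not at hself
    have hrq : r ^ q = u ∨ r ^ q = u⁻¹ := by
      rcases hfrob r (Or.inl rfl) with h | h | h | h
      · exact absurd h hself.1
      · exact absurd h hself.2
      · exact Or.inl h
      · exact Or.inr h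
    have huq : u ^ q = r ∨ u ^ q = r⁻¹ := by
      rcases hfrob u (Or.inr (Or.inr (Or.inl rfl))) with h | h | h | h
      · exact Or.inl h
      · exact Or.inr h
      · exfalso
        rcases hrq with e | e
        · exact hru.1 (hinj _ _ (h.trans e.symm))
        · exact hru.2 (hinj _ _ (by rw [h, inv_pow, e, inv_inv]))
      · exfalso
        rcases hrq with e | e
        · exact hru.2 (hinj _ _ (by rw [h, inv_pow, e]))
        · exact hru.1 (hinj _ _ (h.trans e.symm))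
    have hrr : r ≠ r⁻¹ := by
      intro e
      have hr2 : r * r = 1 := by nth_rw 2 [e]; exact mul_inv_cancel₀ hr
      rcases mul_self_eq_one_iff.1 hr2 with h | h
      · exact hself.1 (by rw [h, one_pow])
      · refine hself.1 ?_
        rw [h, ← hF]
        simpa using hom_pow_card ι (-1 : F)
    have huu : u ≠ u⁻¹ := fun e => by
      rcases huq with h | h
      · exact hrr (by conv_rhs => rw [← h, ← inv_pow, ← e, h])
      · exact hrr (by conv_lhs => rw [← inv_inv r, ← h, ← inv_pow, ← e, h])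
    have hsq : r ^ (q ^ 2) = r ∨ r ^ (q ^ 2) = r⁻¹ := by
      rw [sq, pow_mul]
      rcases hrq with h | h <;> rw [h] <;>
        rcases huq with h' | h' <;> simp only [inv_pow, h', inv_inv, true_or, or_true]
    have hex : (r ^ (q ^ 2 - 1) = 1 ∨ r ^ (q ^ 2 + 1) = 1) :=
      (pow_eq_self_or_inv hr (pow_pos hq0 2)).2 hsq
    have key : ∀ N, (r ^ N = 1 ∨ r ^ N = -1) → Bound p q N →
        ∃ n, Bound p q n ∧ ∃ c : K, (g.1.map ι) ^ n = algebraMap K (M4 K) c := by
      intro N hN hB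
      obtain ⟨c, hc, hcc, hcq⟩ : ∃ c : K, r ^ N = c ∧ c⁻¹ = c ∧ c ^ q = c := by
        rcases hN with h | h
        · exact ⟨1, h, inv_one, one_pow q⟩
        · exact ⟨-1, h, by rw [inv_neg, inv_one], by rw [← hF]; simpa using hom_pow_card ι (-1 : F)⟩
      refine ⟨N, hB, c, pow_eq_of_dvd h0 (dvd_four hrr (Ne.symm hru.1) n4 ?_ ?_ huu hc ?_ ?_ ?_)⟩
      · exact fun e => n4 (by rw [← e, inv_inv])
      · exact fun e => hru.1 (inv_injective e).symm
      · rw [inv_pow, hc, hcc]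
      · rcases hrq with h | h
        · rw [← h, ← pow_mul, Nat.mul_comm, pow_mul, hc, hcq]
        · rw [← inv_inv u, ← h, inv_pow, ← pow_mul, Nat.mul_comm, pow_mul, hc, hcq, hcc]
      · rcases hrq with h | h
        · rw [← h, inv_pow, ← pow_mul, Nat.mul_comm, pow_mul, hc, hcq, hcc]
        · rw [← h, ← pow_mul, Nat.mul_comm, pow_mul, hc, hcq]
    by_cases h2 : p = 2
    · rcases hex with h | h
      · exact key _ (Or.inl h) (Or.inl ⟨h2, Or.inr (Or.inl rfl)⟩)
      · exact key _ (Or.inl h) (Or.inl ⟨h2, Or.inl rfl⟩)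
    · obtain ⟨e1, e2, -, -⟩ := half_dvd (Fact.out : p.Prime) h2 hq
      rcases hex with h | h
      · refine key _ (sq_eq_one_iff.1 ?_) (Or.inr (Or.inl ⟨h2, Or.inr rfl⟩))
        rw [← pow_mul, Nat.mul_comm, e1, h]
      · refine key _ (sq_eq_one_iff.1 ?_) (Or.inr (Or.inl ⟨h2, Or.inl rfl⟩))
        rw [← pow_mul, Nat.mul_comm, e2, h]

omit [Fintype F] in
theorem scalar_mem_center {m : ℕ} {g : Matrix.symplecticGroup (Fin m) F} {c : F}
    (h : g.1 = algebraMap F _ c) : g ∈ Subgroup.center (Matrix.symplecticGroup (Fin m) F) := by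
  rw [Subgroup.mem_center_iff]
  intro x
  apply Subtype.ext
  simp only [Submonoid.coe_mul, h]
  exact (Algebra.commutes c x.1).symm

theorem psp_bound (p q f : ℕ) [Fact p.Prime] [CharP F p] (hq : q = p ^ f)
    (hF : Fintype.card F = q) (x : Cfsg.PSp 2 F) : ∃ n, Bound p q n ∧ x ^ n = 1 := by
  obtain ⟨g, rfl⟩ := QuotientGroup.mk_surjective x
  let ι := algebraMap F (AlgebraicClosure F)
  haveI : CharP (AlgebraicClosure F) p := (RingHom.charP_iff ι ι.injective p).1 inferInstance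
  obtain ⟨n, hn, c, hc⟩ := exists_bound_pow ι p q f hq hF g
  refine ⟨n, hn, ?_⟩
  have hmap : (g.1 ^ n).map ι = algebraMap (AlgebraicClosure F) (M4 (AlgebraicClosure F)) c := by
    rw [Matrix.map_pow, hc]
  rw [← QuotientGroup.mk_pow]
  refine (QuotientGroup.eq_one_iff _).2 (scalar_mem_center (c := (g.1 ^ n) (Sum.inl 0) (Sum.inl 0)) ?_)
  rw [SubmonoidClass.coe_pow]
  ext i j
  apply ι.injective
  have h1 := congrFun (congrFun hmap i) j
  have h2 := congrFun (congrFun hmap (Sum.inl 0)) (Sum.inl 0)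
  simp only [Matrix.map_apply, Matrix.algebraMap_matrix_apply, if_true] at h1 h2 ⊢
  rw [h1]
  split <;> simp_all

end Cfsg.Agent.Lead.SpFourSpectrum
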